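import Cfsg.Agent.Lib.ConjRankThree.General
import Cfsg.Agent.Lib.CharTheory.Burnside
import Cfsg.Agent.Lib.JordanCover

/-!
Two sizes of centralisers of noncentral elements in a nonsolvable group: first consequences.
-/

set_option autoImplicit false
set_option linter.unusedSectionVars false
set_option linter.style.haveILetI false

namespace CfsgLib.ClassThree

open Subgroup CfsgLib.ConjRankThree

universe u

/-- The centralisers of the noncentral elements have order `a` or `b`, and the group is not solvable. -/
structure Two (G : Type u) [Group G] [Finite G] (a b : ℕ) : Prop where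
  lt : b < a
  vals : ∀ x : G, x ∉ center G → cc x = a ∨ cc x = b
  ns : ¬ Group.IsSolvable G

variable {G : Type u} [Group G] [Finite G] {a b : ℕ}

theorem cc_eq_card_iff {x : G} : cc x = Nat.card G ↔ x ∈ center G := by
  refine ⟨fun e => mem_center_iff.mpr fun g => mem_cent.mp ?_, fun h => ?_⟩
  · rw [Subgroup.eq_top_of_card_eq (centralizer ({x} : Set G)) e]; trivial
  · rw [cc, show centralizer ({x} : Set G) = ⊤ from eq_top_iff.mpr fun g _ => mem_cent.mpr (mem_center_iff.mp h g),
      card_top]

theorem noncentral_of_dvd {y z : G} (hy : y ∉ center G) (hle : centralizer ({z} : Set G) ≤ centralizer ({y} : Set G)) :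
    z ∉ center G := fun hz => hy (mem_center_iff.mpr fun g => mem_cent.mp (hle (mem_cent.mpr (mem_center_iff.mp hz g))))

theorem noncentral_mul {y w : G} (hy : y ∉ center G) (hc : Commute y w) (hco : (orderOf y).Coprime (orderOf w)) :
    y * w ∉ center G :=
  noncentral_of_dvd hy ((mul_cent hc hco).le.trans inf_le_left)

/-- A noncentral element has a noncentral power of prime power order. -/
theorem exists_primary_noncentral : ∀ (n : ℕ) (x : G), orderOf x ≤ n → x ∉ center G →
    ∃ (i r k : ℕ), r.Prime ∧ orderOf (x ^ i) = r ^ k ∧ x ^ i ∉ center G := by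
  intro n
  induction n with
  | zero => intro x h _; exact absurd (orderOf_pos x) (by omega)
  | succ n ih =>
    intro x hle hx
    have h1 : orderOf x ≠ 1 := fun e => hx (by rw [orderOf_eq_one_iff.mp e]; exact one_mem _)
    obtain ⟨r, hr, hrd⟩ := Nat.exists_prime_and_dvd h1
    haveI := Fact.mk hr
    obtain ⟨k, m, hm, hkm⟩ := Nat.exists_eq_pow_mul_and_not_dvd (orderOf_pos x).ne' r hr.ne_one
    have hm0 : m ≠ 0 := fun e => hm (e ▸ dvd_zero r)
    by_cases hrp : x ^ m ∈ center G
    · have hk : k ≠ 0 := fun e => hm (by rw [e, pow_zero, one_mul] at hkm; exact hkm ▸ hrd)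
      have ho : orderOf (x ^ r ^ k) = m := by
        rw [orderOf_pow_of_dvd (pow_pos hr.pos k).ne' (hkm ▸ dvd_mul_right _ _), hkm,
          Nat.mul_div_cancel_left _ (pow_pos hr.pos k)]
      have hnc : x ^ r ^ k ∉ center G := fun hc => hx (by
        have e : ((r ^ k : ℕ) : ℤ) * Nat.gcdA (r ^ k) m + (m : ℤ) * Nat.gcdB (r ^ k) m = 1 := by
          rw [← Nat.gcd_eq_gcd_ab, Nat.Coprime.gcd_eq_one ((hr.coprime_iff_not_dvd.mpr hm).pow_left k), Nat.cast_one]
        have e2 : (x ^ r ^ k) ^ Nat.gcdA (r ^ k) m * (x ^ m) ^ Nat.gcdB (r ^ k) m = x := by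
          rw [← zpow_natCast, ← zpow_natCast, ← zpow_mul, ← zpow_mul, ← zpow_add, e, zpow_one]
        rw [← e2]
        exact mul_mem (zpow_mem hc _) (zpow_mem hrp _))
      have hlt : m < orderOf x := by
        rw [hkm]
        exact lt_mul_of_one_lt_left (Nat.pos_of_ne_zero hm0) (Nat.one_lt_pow hk hr.one_lt)
      obtain ⟨i, q, l, hq, hl, hnci⟩ := ih (x ^ r ^ k) (by omega) hnc
      exact ⟨r ^ k * i, q, l, hq, by rw [pow_mul]; exact hl, by rw [pow_mul]; exact hnci⟩
    · refine ⟨m, r, k, hr, ?_, hrp⟩
      rw [orderOf_pow_of_dvd hm0 (hkm ▸ dvd_mul_left _ _), hkm, Nat.mul_div_cancel _ (Nat.pos_of_ne_zero hm0)]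

theorem card_cent_of_le {C : Subgroup G} (w : C) (h : centralizer ({(w : G)} : Set G) ≤ C) :
    cc w = cc (w : G) := by
  have e : centralizer ({w} : Set C) = (centralizer ({(w : G)} : Set G)).subgroupOf C := by
    ext v
    simp only [mem_subgroupOf, mem_cent]
    exact ⟨fun h => congrArg Subtype.val h, fun h => Subtype.ext h⟩
  rw [cc, e]
  exact Nat.card_congr (subgroupOfEquivOfLe h).toEquiv

/-- The centraliser of a commuting pair of coprime orders, inside the centraliser of one of them. -/
theorem cc_sub_mul {z : G} (w : centralizer ({z} : Set G)) (hco : (orderOf z).Coprime (orderOf (w : G))) :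
    cc w = cc (z * (w : G)) := by
  have hmul := mul_cent (show Commute z (w : G) from (mem_cent.mp w.2).symm) hco
  have e : centralizer ({w} : Set (centralizer ({z} : Set G))) =
      (centralizer ({z * (w : G)} : Set G)).subgroupOf (centralizer ({z} : Set G)) := by
    ext v
    simp only [hmul, mem_subgroupOf, mem_inf, v.2, true_and, mem_cent]
    exact ⟨fun h => congrArg Subtype.val h, fun h => Subtype.ext h⟩
  rw [cc, e]
  exact Nat.card_congr (subgroupOfEquivOfLe (hmul.le.trans inf_le_left)).toEquiv

theorem mem_center_sub_iff {z : G} (w : centralizer ({z} : Set G)) :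
    w ∈ center (centralizer ({z} : Set G)) ↔
      centralizer ({z} : Set G) ≤ centralizer ({(w : G)} : Set G) := by
  refine ⟨fun h g hg => mem_cent.mpr (congrArg Subtype.val (mem_center_iff.mp h ⟨g, hg⟩)),
    fun h => mem_center_iff.mpr fun g => Subtype.ext (mem_cent.mp (h g.2))⟩

namespace Two

variable (h : Two G a b)
include h

/-- Nothing properly divides the smaller order. -/
theorem dvd_b {y w : G} (hy : cc y = b) (hw : w ∉ center G) (hd : cc w ∣ cc y) : cc w = cc y := by
  rcases h.vals w hw with e | e
  · exact absurd (Nat.le_of_dvd (cc_pos y) hd) (by rw [e, hy]; exact not_le.mpr h.lt)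
  · rw [e, hy]

theorem le_of_b {y w : G} (hy : cc y = b) (hyc : y ∉ center G) (hc : Commute y w)
    (hco : (orderOf y).Coprime (orderOf w)) :
    centralizer ({y} : Set G) ≤ centralizer ({w} : Set G) := by
  have hmul := mul_cent hc hco
  have e := h.dvd_b hy (noncentral_mul hyc hc hco) (cc_le_of_le (hmul.le.trans inf_le_left))
  have h1 : centralizer ({y * w} : Set G) = centralizer ({y} : Set G) :=
    eq_of_le_of_card_ge (hmul.le.trans inf_le_left) e.ge
  exact h1.ge.trans (hmul.le.trans inf_le_right)

/-- The other prime parts of a small centraliser are central in it. -/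
theorem commute_of_b {y : G} (hy : cc y = b) (hyc : y ∉ center G) {p k : ℕ} (hp : p.Prime) (ho : orderOf y = p ^ k)
    {w v : G} (hw : Commute y w) (hwp : ¬ p ∣ orderOf w) (hv : Commute y v) : Commute v w :=
  mem_cent.mp (h.le_of_b hy hyc hw (ho ▸ (hp.coprime_iff_not_dvd.mpr hwp).pow_left k) (mem_cent.mpr hv.eq.symm))

theorem nilpotent_of_b {y : G} (hy : cc y = b) (hyc : y ∉ center G) {p k : ℕ} (hp : p.Prime)
    (ho : orderOf y = p ^ k) : Group.IsNilpotent (centralizer ({y} : Set G)) := by
  haveI := Fact.mk hp
  set C := centralizer ({y} : Set G)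
  refine Group.of_quotient_center_nilpotent (IsPGroup.isNilpotent (p := p) ?_)
  intro q
  induction q using QuotientGroup.induction_on with
  | H g =>
    obtain ⟨i, m, hm, hom⟩ := Nat.exists_eq_pow_mul_and_not_dvd (orderOf_pos g).ne' p hp.ne_one
    refine ⟨i, ?_⟩
    rw [← QuotientGroup.mk_pow, QuotientGroup.eq_one_iff, mem_center_iff]
    intro v
    refine Subtype.ext ?_
    rw [Subgroup.coe_mul, Subgroup.coe_mul, SubmonoidClass.coe_pow]
    refine (h.commute_of_b hy hyc hp ho ((show Commute y (g : G) from (mem_cent.mp g.2).symm).pow_right _) ?_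
      (mem_cent.mp v.2).symm).eq
    rw [orderOf_pow, Subgroup.orderOf_coe, hom, Nat.gcd_eq_right (Dvd.intro m rfl),
      Nat.mul_div_cancel_left _ (pow_pos hp.pos i)]
    exact hm

/-- The regular elements noncentral in the centraliser of a primary element have a product with small
centraliser. -/
theorem cc_regular {z : G} (hz : z ∉ center G) (w : centralizer ({z} : Set G))
    (hco : (orderOf z).Coprime (orderOf (w : G))) (hw : w ∉ center (centralizer ({z} : Set G))) :
    cc z = a ∧ cc w = b ∧ b ∣ a := by
  have hc : Commute z (w : G) := (mem_cent.mp w.2).symm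
  have hzw := noncentral_mul hz hc hco
  have hle := (mul_cent hc hco).le.trans inf_le_left
  have hne : cc (z * (w : G)) ≠ cc z := fun e => hw ((mem_center_sub_iff w).mpr
    ((eq_of_le_of_card_ge hle e.ge).ge.trans ((mul_cent hc hco).le.trans inf_le_right)))
  have hd := cc_le_of_le hle
  rw [cc_sub_mul w hco]
  rcases h.vals z hz with e1 | e1
  · rcases h.vals _ hzw with e2 | e2
    · exact absurd (e2.trans e1.symm) hne
    · exact ⟨e1, e2, e2 ▸ e1 ▸ hd⟩
  · exact absurd (h.dvd_b e1 hzw hd) hne

theorem index_regular {z : G} (hz : z ∉ center G) (w : centralizer ({z} : Set G))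
    (hco : (orderOf z).Coprime (orderOf (w : G))) (hw : w ∉ center (centralizer ({z} : Set G))) :
    (centralizer ({w} : Set (centralizer ({z} : Set G)))).index = a / b := by
  obtain ⟨h1, h2, -⟩ := h.cc_regular hz w hco hw
  have hb : 0 < b := h2 ▸ cc_pos w
  have e := (centralizer ({w} : Set (centralizer ({z} : Set G)))).card_mul_index
  rw [show Nat.card (centralizer ({w} : Set (centralizer ({z} : Set G)))) = b from h2,
    show Nat.card (centralizer ({z} : Set G)) = a from h1] at e
  exact Nat.eq_div_of_mul_eq_right hb.ne' e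

/-- Centralisers of noncentral elements are solvable. -/
theorem solvable_cent {x : G} (hx : x ∉ center G) : Group.IsSolvable (centralizer ({x} : Set G)) := by
  obtain ⟨i, r, k, hr, hk, hnc⟩ := exists_primary_noncentral _ x le_rfl hx
  haveI := Fact.mk hr
  suffices hs : Group.IsSolvable (centralizer ({x ^ i} : Set G)) by
    exact Group.isSolvable_of_isSolvable_injective (f := inclusion (cent_le_pow x i)) (inclusion_injective _)
  set C := centralizer ({x ^ i} : Set G)
  obtain ⟨D, hn, hd, e, he⟩ := exists_nilpotent_complement (G := C) hr (m := a / b) fun w hw hwc =>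
    h.index_regular hnc w (by
      rw [hk, Subgroup.orderOf_coe]
      exact (Nat.Coprime.pow_left k hw.symm)) hwc
  obtain ⟨S⟩ : Nonempty (Sylow r C) := inferInstance
  exact isSolvable_of_complement hr hn hd he S.2 (by rw [S.card_eq_multiplicity])

theorem solvable_le {H : Subgroup G} {x : G} (hx : x ∉ center G) (hH : ∀ g ∈ H, Commute g x) :
    Group.IsSolvable H :=
  haveI := h.solvable_cent hx
  Group.isSolvable_of_isSolvable_injective (f := inclusion (show H ≤ centralizer ({x} : Set G) from
    fun g hg => mem_cent.mpr (hH g hg).eq)) (inclusion_injective _)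

/-- If every noncentral element centralises a Sylow subgroup then that subgroup is central. -/
theorem exists_deficient {r : ℕ} [Fact r.Prime] (R : Sylow r G) (hR : ¬ (R : Subgroup G) ≤ center G) :
    ∃ x : G, x ∉ center G ∧ ¬ r ^ (Nat.card G).factorization r ∣ cc x := by
  by_contra hall
  push Not at hall
  refine hR ?_
  have htop : centralizer ((R : Subgroup G) : Set G) = ⊤ := by
    refine CfsgLib.eq_top_of_conj_cover _ fun g => ?_
    by_cases hg : g ∈ center G
    · refine ⟨1, ?_⟩
      rw [one_mul, inv_one, mul_one]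
      exact fun v _ => mem_center_iff.mp hg v
    · obtain ⟨c, hc⟩ := exists_sylow_le R (hall g hg)
      exact ⟨c, fun v hv => mem_cent.mp (hc hv)⟩
  intro v hv
  refine mem_center_iff.mpr fun g => ?_
  exact ((htop ▸ mem_top g : g ∈ centralizer ((R : Subgroup G) : Set G)) v hv).symm

end Two

end CfsgLib.ClassThree
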