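import Cfsg.Agent.S3214
import Cfsg.Agent.S3784
import Cfsg.Agent.S4231
import Cfsg.Agent.Lib.AltSpectrum
import Cfsg.Agent.Lib.CITExt.L34
import Cfsg.Agent.Lib.CITUse.Eppo
import Cfsg.Agent.Lib.EppoAlmost.List
import Cfsg.Agent.Lib.PSL2Spectrum
import Cfsg.Agent.Lib.Suzuki.Semisimple
import Cfsg.Agent.Lib.SylowExtra

/-!
In each simple group of the list of groups whose involution centralisers have normal 2-complements there are three
primes no two of which are joined in the prime graph, two of them with cyclic Sylow subgroups, except for the group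
of order 360.
-/

set_option autoImplicit false
set_option linter.unusedSectionVars false
set_option linter.style.haveILetI false

namespace CfsgLib.ClassThree

open Subgroup Cfsg

universe u

variable {L : Type u} [Group L] [Finite L]

/-- No element of order `r` commutes with one of order `p`. -/
def NC (L : Type u) [Group L] (r p : ℕ) : Prop :=
  ∀ x y : L, orderOf x = r → orderOf y = p → ¬ Commute x y

theorem NC.symm {r p : ℕ} (h : NC L r p) : NC L p r := fun x y hx hy hc => h y x hy hx hc.symm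

theorem nc_of_orders {r p : ℕ} (hr : r.Prime) (hp : p.Prime) (hne : r ≠ p) (h : ∀ g : L, orderOf g ≠ r * p) :
    NC L r p := fun x y hx hy hc => h (x * y) (by
  rw [hc.orderOf_mul_eq_mul_orderOf_of_coprime (by rw [hx, hy]; exact (Nat.coprime_primes hr hp).mpr hne), hx, hy])

/-- Cyclic Sylow subgroups. -/
def CycSylow (L : Type u) [Group L] (r : ℕ) : Prop := ∀ P : Sylow r L, IsCyclic (P : Subgroup L)

theorem cyclic_of_element {r n m : ℕ} [Fact r.Prime] {g : L} (hg : orderOf g = n) (hcard : Nat.card L = n * m)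
    (hm : ¬ r ∣ m) : CycSylow L r := by
  have hidx : (zpowers g).index = m := by
    have h1 := (zpowers g).card_mul_index
    rw [Nat.card_zpowers, hg, hcard] at h1
    exact Nat.eq_of_mul_eq_mul_left (hg ▸ orderOf_pos g) h1
  obtain ⟨P0, hP0⟩ := CfsgLib.exists_sylow_le_of_not_dvd_index (p := r) (zpowers g) (hidx ▸ hm)
  intro P
  haveI : IsCyclic (P0 : Subgroup L) := isCyclic_of_injective (inclusion hP0) (inclusion_injective _)
  exact isCyclic_of_surjective _ (Sylow.equiv P0 P).surjective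

/-- Three primes of the order of `L` which are pairwise not joined, the first odd. -/
structure Triple (L : Type u) [Group L] (r p u : ℕ) : Prop where
  hr : r.Prime
  hp : p.Prime
  hu : u.Prime
  rp : r ≠ p
  ru : r ≠ u
  pu : p ≠ u
  r2 : r ≠ 2
  er : ∃ x : L, orderOf x = r
  ep : ∃ x : L, orderOf x = p
  eu : ∃ x : L, orderOf x = u
  nrp : NC L r p
  nru : NC L r u
  npu : NC L p u

theorem exists_of_mulEquiv {M : Type*} [Group M] (e : L ≃* M) {n : ℕ} (h : ∃ y : M, orderOf y = n) :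
    ∃ x : L, orderOf x = n := by
  obtain ⟨y, hy⟩ := h
  exact ⟨e.symm y, by rw [MulEquiv.orderOf_eq, hy]⟩

theorem not_dvd_prime_mul {r p n : ℕ} (hn : n.Prime) (hr : r.Prime) (hp : p.Prime) : n ≠ r * p := fun e =>
  Nat.not_prime_mul hr.ne_one hp.ne_one (e ▸ hn)

/-- The conclusion. -/
def Listed (L : Type u) [Group L] : Prop :=
  (∃ r p u, Triple L r p u ∧ CycSylow L r ∧ CycSylow L p) ∨
    (Triple L 5 3 2 ∧ CycSylow L 5 ∧ Nonempty (L ≃* alternatingGroup (Fin 6)))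

theorem eq_of_prime_dvd {r n : ℕ} (hr : r.Prime) (hn : n.Prime) (h : r ∣ n) : r = n :=
  (Nat.prime_dvd_prime_iff_eq hr hn).mp h

/-- Two coprime torus orders, one odd. -/
theorem odd_core {p q f o e : ℕ} [Fact p.Prime] (hp2 : p ≠ 2) (hf : 1 ≤ f) (hq : q = p ^ f)
    (hcard : Nat.card L = 2 * q * o * e)
    (hspec : ∀ n, (∃ g : L, orderOf g = n) ↔ n ∣ o ∨ n ∣ e ∨ n = p) (ho : Odd o) (ho1 : 1 < o) (he : 2 ∣ e)
    (hco : o.Coprime e) (hpo : ¬ p ∣ o) (hpe : ¬ p ∣ e)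
    (hexc : ∀ k, e = 2 ^ k → f = 1 ∨ (q = 9 ∧ o = 5 ∧ Nonempty (L ≃* alternatingGroup (Fin 6)))) :
    Listed L := by
  have hp : p.Prime := Fact.out
  obtain ⟨r, hr, hro⟩ := Nat.exists_prime_and_dvd ho1.ne'
  haveI := Fact.mk hr
  have hr2 : r ≠ 2 := fun e2 => (Nat.not_even_iff_odd.mpr ho) (even_iff_two_dvd.mpr (e2 ▸ hro))
  have hrp : r ≠ p := fun e1 => hpo (e1 ▸ hro)
  have hre : ¬ r ∣ e := fun hd => hr.ne_one (Nat.eq_one_of_dvd_coprimes hco hro hd)
  have hrq : ¬ r ∣ q := fun hd => hrp (eq_of_prime_dvd hr hp (hr.dvd_of_dvd_pow (hq ▸ hd)))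
  have hrL : ∃ x : L, orderOf x = r := (hspec r).mpr (Or.inl hro)
  have hpL : ∃ x : L, orderOf x = p := (hspec p).mpr (Or.inr (Or.inr rfl))
  have hncp : ∀ {v : ℕ}, v.Prime → v ≠ p → NC L v p := fun {v} hv hvp => nc_of_orders hv hp hvp fun g hg => by
    rcases (hspec _).mp ⟨g, hg⟩ with h | h | h
    · exact hpo ((dvd_mul_left _ _).trans h)
    · exact hpe ((dvd_mul_left _ _).trans h)
    · exact not_dvd_prime_mul hp hv hp h.symm
  have hnce : ∀ {v : ℕ}, v.Prime → v ∣ e → NC L r v := fun {v} hv hve => nc_of_orders hr hv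
    (fun e1 => hre (e1 ▸ hve)) fun g hg => by
      rcases (hspec _).mp ⟨g, hg⟩ with h | h | h
      · exact hv.ne_one (Nat.eq_one_of_dvd_coprimes hco ((dvd_mul_left _ _).trans h) hve)
      · exact hre ((dvd_mul_right _ _).trans h)
      · exact not_dvd_prime_mul hp hr hv h.symm
  have hcycr : CycSylow L r := by
    obtain ⟨g, hg⟩ := (hspec o).mpr (Or.inl dvd_rfl)
    refine cyclic_of_element hg (m := 2 * q * e) (by rw [hcard]; ring) fun hd => ?_
    rcases hr.dvd_mul.mp hd with h | h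
    · rcases hr.dvd_mul.mp h with h' | h'
      · exact hr2 (eq_of_prime_dvd hr Nat.prime_two h')
      · exact hrq h'
    · exact hre h
  by_cases hu : ∃ u, u.Prime ∧ u ∣ e ∧ u ≠ 2
  · obtain ⟨u, hu, hue, hu2⟩ := hu
    haveI := Fact.mk hu
    have hup : u ≠ p := fun e1 => hpe (e1 ▸ hue)
    refine Or.inl ⟨r, u, p, ⟨hr, hu, hp, fun e1 => hre (e1 ▸ hue), hrp, hup, hr2, hrL,
      (hspec u).mpr (Or.inr (Or.inl hue)), hpL, hnce hu hue, hncp hr hrp, hncp hu hup⟩, hcycr, ?_⟩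
    obtain ⟨g, hg⟩ := (hspec e).mpr (Or.inr (Or.inl dvd_rfl))
    refine cyclic_of_element hg (m := 2 * q * o) (by rw [hcard]; ring) fun hd => ?_
    rcases hu.dvd_mul.mp hd with h | h
    · rcases hu.dvd_mul.mp h with h' | h'
      · exact hu2 (eq_of_prime_dvd hu Nat.prime_two h')
      · exact hup (eq_of_prime_dvd hu hp (hu.dvd_of_dvd_pow (hq ▸ h')))
    · exact hu.ne_one (Nat.eq_one_of_dvd_coprimes hco h hue)
  push Not at hu
  have hne : NC L p 2 := (hncp Nat.prime_two hp2.symm).symm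
  have hT : Triple L r p 2 := ⟨hr, hp, Nat.prime_two, hrp, hr2, hp2, hr2, hrL, hpL,
    (hspec 2).mpr (Or.inr (Or.inl he)), hncp hr hrp, hnce Nat.prime_two he, hne⟩
  have he0 : e ≠ 0 := fun e1 => hre (e1 ▸ dvd_zero r)
  rcases hexc _ (Nat.eq_prime_pow_of_unique_prime_dvd he0 fun {d} hd hdd => hu d hd hdd) with h1 | ⟨h9, h5, hA⟩
  · subst h1
    rw [pow_one] at hq
    obtain ⟨g, hg⟩ := hpL
    refine Or.inl ⟨r, p, 2, hT, hcycr, cyclic_of_element hg (m := 2 * o * e) (by rw [hcard, hq]; ring) fun hd => ?_⟩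
    rcases hp.dvd_mul.mp hd with h | h
    · rcases hp.dvd_mul.mp h with h' | h'
      · exact hp2 (eq_of_prime_dvd hp Nat.prime_two h')
      · exact hpo h'
    · exact hpe h
  · have hr5 : r = 5 := eq_of_prime_dvd hr (by norm_num) (h5 ▸ hro)
    have hp3 : p = 3 := eq_of_prime_dvd hp (by norm_num) (hp.dvd_of_dvd_pow (n := 2)
      (show p ∣ 3 ^ 2 by norm_num; rw [← h9, hq]; exact dvd_pow_self p (by omega)))
    subst hr5 hp3
    exact Or.inr ⟨hT, hcycr, hA⟩

/-- The linear groups of dimension two. -/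
theorem psl_two [IsSimpleGroup L] {F : Type} [Field F] [Fintype F] (h3 : 3 < Fintype.card F)
    (e : L ≃* Matrix.ProjectiveSpecialLinearGroup (Fin 2) F) : Listed L := by
  obtain ⟨p, _⟩ := CharP.exists F
  obtain ⟨f, hp, hq⟩ := FiniteField.card F p
  haveI := Fact.mk hp
  set q := Fintype.card F with hqdef
  have hcard := EppoAlmost.card_psl_two (F := F)
  rw [← hqdef, ← Nat.card_congr e.toEquiv] at hcard
  have hsq : q ^ 2 - 1 = (q + 1) * (q - 1) := by rw [← Nat.sq_sub_sq, one_pow]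
  have hords : ∀ n, (∃ g : L, orderOf g = n) ↔
      n ∣ (q - 1) / Nat.gcd 2 (q - 1) ∨ n ∣ (q + 1) / Nat.gcd 2 (q - 1) ∨ n = p := fun n => by
    rw [← PSL2Spectrum.psl_orders (F := F) p n]
    exact ⟨fun ⟨g, hg⟩ => ⟨e g, by rw [MulEquiv.orderOf_eq, hg]⟩, fun h => exists_of_mulEquiv e h⟩
  rcases Nat.even_or_odd q with heven | hodd
  · -- even order
    have hp2 : p = 2 := by
      have h2 : 2 ∣ p ^ (f : ℕ) := hq ▸ heven.two_dvd
      exact (eq_of_prime_dvd Nat.prime_two hp (Nat.prime_two.dvd_of_dvd_pow h2)).symm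
    subst hp2
    obtain ⟨j, hj⟩ := heven
    have hd : Nat.gcd 2 (q - 1) = 1 := by
      refine (Nat.prime_two.coprime_iff_not_dvd.mpr ?_ : Nat.Coprime 2 _)
      omega
    simp only [hd, Nat.div_one] at hords
    rw [hd, one_mul, hsq] at hcard
    obtain ⟨r, hr, hrd⟩ := Nat.exists_prime_and_dvd (show q - 1 ≠ 1 by omega)
    obtain ⟨s, hs, hsd⟩ := Nat.exists_prime_and_dvd (show q + 1 ≠ 1 by omega)
    haveI := Fact.mk hr
    haveI := Fact.mk hs
    have hr2 : r ≠ 2 := fun e1 => by rw [e1] at hrd; omega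
    have hs2 : s ≠ 2 := fun e1 => by rw [e1] at hsd; omega
    have hrs : ¬ r ∣ q + 1 := fun hd' => hr2 (eq_of_prime_dvd hr Nat.prime_two (by
      have := Nat.dvd_sub hd' hrd
      rwa [show q + 1 - (q - 1) = 2 by omega] at this))
    have hsr : ¬ s ∣ q - 1 := fun hd' => hs2 (eq_of_prime_dvd hs Nat.prime_two (by
      have := Nat.dvd_sub hsd hd'
      rwa [show q + 1 - (q - 1) = 2 by omega] at this))
    have hqp : ∀ {v : ℕ}, v.Prime → v ∣ q → v = 2 := fun hv hd' =>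
      eq_of_prime_dvd hv Nat.prime_two (hv.dvd_of_dvd_pow (hq ▸ hd'))
    have hnc : ∀ {v w : ℕ}, v.Prime → w.Prime → v ≠ w → ¬ (v ∣ q - 1 ∧ w ∣ q - 1) →
        ¬ (v ∣ q + 1 ∧ w ∣ q + 1) → NC L v w := fun {v w} hv hw hne h1 h2 => nc_of_orders hv hw hne fun g hg => by
      rcases (hords _).mp ⟨g, hg⟩ with h | h | h
      · exact h1 ⟨(dvd_mul_right _ _).trans h, (dvd_mul_left _ _).trans h⟩
      · exact h2 ⟨(dvd_mul_right _ _).trans h, (dvd_mul_left _ _).trans h⟩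
      · exact not_dvd_prime_mul Nat.prime_two hv hw h.symm
    refine Or.inl ⟨r, s, 2, ⟨hr, hs, Nat.prime_two, fun e1 => hrs (e1 ▸ hsd), hr2, hs2, hr2,
      (hords r).mpr (Or.inl hrd), (hords s).mpr (Or.inr (Or.inl hsd)), (hords 2).mpr (Or.inr (Or.inr rfl)),
      hnc hr hs (fun e1 => hrs (e1 ▸ hsd)) (fun h => hsr h.2) (fun h => hrs h.1),
      hnc hr Nat.prime_two hr2 (fun h => by omega) (fun h => hrs h.1),
      hnc hs Nat.prime_two hs2 (fun h => hsr h.1) (fun h => by omega)⟩, ?_, ?_⟩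
    · obtain ⟨g, hg⟩ := (hords (q - 1)).mpr (Or.inl dvd_rfl)
      refine cyclic_of_element hg (m := q * (q + 1)) (by rw [hcard]; ring) fun hd' => ?_
      exact (hr.dvd_mul.mp hd').elim (fun h => hr2 (hqp hr h)) hrs
    · obtain ⟨g, hg⟩ := (hords (q + 1)).mpr (Or.inr (Or.inl dvd_rfl))
      refine cyclic_of_element hg (m := q * (q - 1)) (by rw [hcard]; ring) fun hd' => ?_
      exact (hs.dvd_mul.mp hd').elim (fun h => hs2 (hqp hs h)) hsr
  -- odd order
  obtain ⟨j, hj⟩ := hodd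
  have hd : Nat.gcd 2 (q - 1) = 2 := Nat.gcd_eq_left ⟨j, by omega⟩
  have hp2 : p ≠ 2 := fun e1 => by
    have : 2 ∣ q := by rw [hq, e1]; exact dvd_pow_self 2 f.2.ne'
    omega
  simp only [hd] at hords
  rw [hd, hsq, show q + 1 = 2 * (j + 1) by omega, show q - 1 = 2 * j by omega] at hcard
  rw [show (q - 1) / 2 = j by omega, show (q + 1) / 2 = j + 1 by omega] at hords
  have hL : Nat.card L = 2 * q * j * (j + 1) := by
    refine Nat.eq_of_mul_eq_mul_left (show 0 < 2 by norm_num) ?_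
    rw [hcard]; ring
  have hpq : p ∣ q := hq ▸ dvd_pow_self p f.2.ne'
  have hpj : ¬ p ∣ j := fun h => hp.one_lt.ne' (Nat.dvd_one.mp (by
    have := Nat.dvd_sub hpq (h.mul_left 2)
    rwa [show q - 2 * j = 1 by omega] at this))
  have hpj1 : ¬ p ∣ j + 1 := fun h => hp.one_lt.ne' (Nat.dvd_one.mp (by
    have := Nat.dvd_sub (h.mul_left 2) hpq
    rwa [show 2 * (j + 1) - q = 1 by omega] at this))
  have hnine : q = 9 → Nonempty (L ≃* alternatingGroup (Fin 6)) := fun h9 => CITUse.psl_nine_alt h9 e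
  rcases Nat.even_or_odd j with hje | hjo
  · -- j + 1 is odd
    refine odd_core (o := j + 1) (e := j) hp2 f.2 hq (by rw [hL]; ring)
      (fun n => (hords n).trans ⟨fun h => h.elim (fun h => Or.inr (Or.inl h)) fun h => h.elim Or.inl
        (fun h => Or.inr (Or.inr h)), fun h => h.elim (fun h => Or.inr (Or.inl h)) fun h => h.elim Or.inl
        (fun h => Or.inr (Or.inr h))⟩)
      hje.add_one (by omega) hje.two_dvd (by simp) hpj1 hpj fun k hk => ?_
    have h2 : p ^ (f : ℕ) = 2 ^ (k + 1) + 1 := by rw [← hq, pow_succ]; omega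
    rcases Cfsg.Agent.S3784.result p 2 f (k + 1) hp Nat.prime_two f.2 (by omega) h2 with h | h | h
    · exact absurd h.1 hp2
    · exact Or.inl h.2.1
    · exact Or.inr ⟨by rw [hq]; exact h.1, by rw [← hq] at h; omega, hnine (hq ▸ h.1)⟩
  · refine odd_core (o := j) (e := j + 1) hp2 f.2 hq hL hords hjo (by
      obtain ⟨i, hi⟩ := hjo
      rcases Nat.eq_zero_or_pos i with rfl | hi0
      · omega
      · omega) (even_iff_two_dvd.mp (hjo.add_one)) (by simp) hpj hpj1 fun k hk => ?_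
    have h2 : 2 ^ (k + 1) = p ^ (f : ℕ) + 1 := by rw [← hq, pow_succ]; omega
    rcases Cfsg.Agent.S3784.result 2 p (k + 1) f Nat.prime_two hp (by omega) f.2 h2 with h | h | h
    · exact Or.inl h.2.1
    · exact absurd h.1 hp2
    · exfalso
      have : 2 ∣ 9 := h.1 ▸ dvd_pow_self 2 (by omega)
      omega

/-- The Suzuki groups. -/
theorem suzuki {F : Type} [Field F] [Fintype F] {m : ℕ} (hm : 1 ≤ m) (hF : Fintype.card F = 2 ^ (2 * m + 1))
    (e : L ≃* ↥(Cfsg.Sz F m)) : Listed L := by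
  obtain ⟨Ap, Am, cp, hAp, up, -, cm, hAm, um, -, hall⟩ := Suzuki.classify hF hm
  obtain ⟨c1, c2, c3, c4, c5, c6⟩ := Suzuki.coprime_orders hF hm _ _ _ rfl rfl rfl
  obtain ⟨hprod, hs2', hs4, hq8, -, hq2, -⟩ := Suzuki.arith hF hm _ _ rfl rfl
  have hG : Nat.card ↥(Cfsg.Sz F m) = (2 ^ (2 * m + 1)) ^ 2 * (2 ^ (2 * m + 1) - 1) *
      (2 ^ (2 * m + 1) + 2 ^ (m + 1) + 1) * (2 ^ (2 * m + 1) - 2 ^ (m + 1) + 1) := by
    rw [Suzuki.card_Sz hF hm, mul_assoc _ (2 ^ (2 * m + 1) + 2 ^ (m + 1) + 1), hprod]; ring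
  have hT := Suzuki.card_T hF
  have hm2 : 2 ^ (m + 1) % 2 = 0 := by rw [pow_succ]; omega
  have hn1 : 2 ^ (2 * m + 1) - 1 ≠ 1 ∧ (2 ^ (2 * m + 1) - 1) % 2 = 1 := by omega
  have hn2 : 2 ^ (2 * m + 1) + 2 ^ (m + 1) + 1 ≠ 1 ∧ (2 ^ (2 * m + 1) + 2 ^ (m + 1) + 1) % 2 = 1 := by omega
  have h2sq : 2 ∣ (2 ^ (2 * m + 1)) ^ 2 := (dvd_pow_self 2 (Nat.succ_ne_zero _)).trans (dvd_pow_self _ two_ne_zero)
  set t := 2 ^ (2 * m + 1) - 1
  set ap := 2 ^ (2 * m + 1) + 2 ^ (m + 1) + 1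
  set am := 2 ^ (2 * m + 1) - 2 ^ (m + 1) + 1
  obtain ⟨r, hr, hrd⟩ := Nat.exists_prime_and_dvd hn1.1
  obtain ⟨p, hp, hpd⟩ := Nat.exists_prime_and_dvd hn2.1
  haveI := Fact.mk hr
  haveI := Fact.mk hp
  have key : ∀ {v n : ℕ}, v.Prime → v ∣ n → ∀ {H : Subgroup ↥(Cfsg.Sz F m)}, Nat.card H = n →
      (∀ h ∈ H, h ≠ 1 → centralizer ({h} : Set ↥(Cfsg.Sz F m)) ≤ H) →
      (∀ z : ↥(Cfsg.Sz F m), orderOf z = v → z ∈ Suzuki.conjSet H) → ∀ {w : ℕ}, ¬ w ∣ n → NC L v w := by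
    intro v n hv hvn H hH hle hin w hw x y hx hy hc
    have hx' : orderOf (e x) = v := by rw [MulEquiv.orderOf_eq, hx]
    obtain ⟨hne, k, hk⟩ := hin (e x) hx'
    have hmem : e y ∈ centralizer ({e x} : Set ↥(Cfsg.Sz F m)) :=
      mem_centralizer_singleton_iff.mpr (by rw [← map_mul, ← map_mul, hc.eq])
    have := Subgroup.orderOf_dvd_natCard _ (Suzuki.centralizer_le_map_conj H hle hne hk hmem)
    rw [Suzuki.card_map_conj, hH, MulEquiv.orderOf_eq, hy] at this
    exact hw this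
  haveI : Fact (Nat.Prime 2) := ⟨Nat.prime_two⟩
  have hU : ∀ {v : ℕ}, v.Prime → v ≠ 2 → ∀ z : ↥(Cfsg.Sz F m), orderOf z = v → z ∉ Suzuki.conjSet (Suzuki.U hF) :=
    fun {v} hv hv2 z hz h => by
    obtain ⟨i, hi⟩ := (Suzuki.U_isPGroup hF).exists_card_eq
    have hd := Suzuki.orderOf_dvd_of_conjSet _ h
    rw [hz, hi] at hd
    exact hv2 (eq_of_prime_dvd hv Nat.prime_two (hv.dvd_of_dvd_pow hd))
  have hsplit : ∀ {v : ℕ}, v.Prime → v ≠ 2 → ∀ z : ↥(Cfsg.Sz F m), orderOf z = v →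
      (z ∈ Suzuki.conjSet (Suzuki.T hF) ∧ v ∣ t) ∨ (z ∈ Suzuki.conjSet Ap ∧ v ∣ ap) ∨
        (z ∈ Suzuki.conjSet Am ∧ v ∣ am) := fun {v} hv hv2 z hz => by
    have hz1 : z ≠ 1 := fun e1 => hv.ne_one (by rw [← hz, e1, orderOf_one])
    rcases hall z hz1 with h | h | h | h
    · exact absurd h (hU hv hv2 z hz)
    · exact Or.inl ⟨h, by rw [← hz, ← hT]; exact Suzuki.orderOf_dvd_of_conjSet _ h⟩
    · exact Or.inr (Or.inl ⟨h, by rw [← hz, ← hAp]; exact Suzuki.orderOf_dvd_of_conjSet _ h⟩)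
    · exact Or.inr (Or.inr ⟨h, by rw [← hz, ← hAm]; exact Suzuki.orderOf_dvd_of_conjSet _ h⟩)
  have hr2 : r ≠ 2 := fun e1 => by
    have : 2 ∣ t := e1 ▸ hrd
    have := hn1.2
    omega
  have hp2 : p ≠ 2 := fun e1 => by
    have h2 : 2 ∣ ap := e1 ▸ hpd
    have := hn2.2
    omega
  have hrap : ¬ r ∣ ap := fun h => hr.ne_one (Nat.eq_one_of_dvd_coprimes c4 hrd h)
  have hram : ¬ r ∣ am := fun h => hr.ne_one (Nat.eq_one_of_dvd_coprimes c5 hrd h)
  have hpt : ¬ p ∣ t := fun h => hp.ne_one (Nat.eq_one_of_dvd_coprimes c4 h hpd)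
  have hpam : ¬ p ∣ am := fun h => hp.ne_one (Nat.eq_one_of_dvd_coprimes c6 hpd h)
  have hrsq : ¬ r ∣ (2 ^ (2 * m + 1)) ^ 2 := fun h =>
    hr2 (eq_of_prime_dvd hr Nat.prime_two (hr.dvd_of_dvd_pow (hr.dvd_of_dvd_pow h)))
  have hpsq : ¬ p ∣ (2 ^ (2 * m + 1)) ^ 2 := fun h =>
    hp2 (eq_of_prime_dvd hp Nat.prime_two (hp.dvd_of_dvd_pow (hp.dvd_of_dvd_pow h)))
  have hinr : ∀ z : ↥(Cfsg.Sz F m), orderOf z = r → z ∈ Suzuki.conjSet (Suzuki.T hF) := fun z hz => by
    rcases hsplit hr hr2 z hz with h | h | h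
    exacts [h.1, absurd h.2 hrap, absurd h.2 hram]
  have hinp : ∀ z : ↥(Cfsg.Sz F m), orderOf z = p → z ∈ Suzuki.conjSet Ap := fun z hz => by
    rcases hsplit hp hp2 z hz with h | h | h
    exacts [absurd h.2 hpt, h.1, absurd h.2 hpam]
  have hTle := Suzuki.centralizer_T_le hF hm
  have hUle : ∀ h ∈ Ap, h ≠ 1 → centralizer ({h} : Set ↥(Cfsg.Sz F m)) ≤ Ap := fun h hh h1 => (up h hh h1).le
  have hexists : ∀ {v : ℕ} [Fact v.Prime], v ∣ Nat.card ↥(Cfsg.Sz F m) → ∃ x : L, orderOf x = v := fun hd =>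
    exists_of_mulEquiv e (exists_prime_orderOf_dvd_card' _ hd)
  have h2t : ¬ 2 ∣ t := by have := hn1.2; omega
  have h2p : ¬ 2 ∣ ap := by
    have := hn2.2
    omega
  refine Or.inl ⟨r, p, 2, ⟨hr, hp, Nat.prime_two, fun e1 => hrap (e1 ▸ hpd), hr2, hp2, hr2,
    hexists (hG ▸ ((hrd.mul_left _).mul_right _).mul_right _),
    hexists (hG ▸ (hpd.mul_left _).mul_right _),
    hexists (hG ▸ ((h2sq.mul_right _).mul_right _).mul_right _),
    key hr hrd hT hTle hinr hpt, key hr hrd hT hTle hinr h2t, key hp hpd hAp hUle hinp h2p⟩, ?_, ?_⟩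
  · intro P
    haveI : Fact r.Prime := ⟨hr⟩
    obtain ⟨g0, hg0⟩ := IsCyclic.exists_ofOrder_eq_natCard (α := Suzuki.T hF) (h := Suzuki.isCyclic_T hF)
    refine cyclic_of_element (g := e.symm g0) (n := t) (m := (2 ^ (2 * m + 1)) ^ 2 * ap * am) ?_ ?_ ?_ P
    · rw [MulEquiv.orderOf_eq, Subgroup.orderOf_coe, hg0, hT]
    · rw [Nat.card_congr e.toEquiv, hG]; ring
    · intro h
      rcases hr.dvd_mul.mp h with h | h
      · exact (hr.dvd_mul.mp h).elim hrsq hrap
      · exact hram h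
  · intro P
    haveI : Fact p.Prime := ⟨hp⟩
    obtain ⟨g0, hg0⟩ := IsCyclic.exists_ofOrder_eq_natCard (α := Ap) (h := cp)
    refine cyclic_of_element (g := e.symm g0) (n := ap) (m := (2 ^ (2 * m + 1)) ^ 2 * t * am) ?_ ?_ ?_ P
    · rw [MulEquiv.orderOf_eq, Subgroup.orderOf_coe, hg0, hAp]
    · rw [Nat.card_congr e.toEquiv, hG]; ring
    · intro h
      rcases hp.dvd_mul.mp h with h | h
      · exact (hp.dvd_mul.mp h).elim hpsq hpt
      · exact hpam h

/-- Two groups with the primes five and seven to the first power. -/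
theorem seven_five {n : ℕ} (hn : Nat.card L = 35 * n) (h5 : ¬ 5 ∣ n) (h7 : ¬ 7 ∣ n) (h3 : 3 ∣ n)
    (hnc : ∀ {v w : ℕ}, v.Prime → w.Prime → v ≠ w → v ∈ ({7, 5, 3} : Finset ℕ) → w ∈ ({7, 5, 3} : Finset ℕ) →
      NC L v w) : Listed L := by
  haveI := Fact.mk (show Nat.Prime 3 by norm_num)
  haveI := Fact.mk (show Nat.Prime 5 by norm_num)
  haveI := Fact.mk (show Nat.Prime 7 by norm_num)
  obtain ⟨g7, hg7⟩ := exists_prime_orderOf_dvd_card' (G := L) 7 (hn ▸ Dvd.dvd.mul_right (by norm_num) n)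
  obtain ⟨g5, hg5⟩ := exists_prime_orderOf_dvd_card' (G := L) 5 (hn ▸ Dvd.dvd.mul_right (by norm_num) n)
  obtain ⟨g3, hg3⟩ := exists_prime_orderOf_dvd_card' (G := L) 3 (hn ▸ Dvd.dvd.mul_left h3 35)
  refine Or.inl ⟨7, 5, 3, ⟨Fact.out, Fact.out, Fact.out, by norm_num, by norm_num, by norm_num, by norm_num,
    ⟨g7, hg7⟩, ⟨g5, hg5⟩, ⟨g3, hg3⟩, hnc Fact.out Fact.out (by norm_num) (by simp) (by simp),
    hnc Fact.out Fact.out (by norm_num) (by simp) (by simp),
    hnc Fact.out Fact.out (by norm_num) (by simp) (by simp)⟩, ?_, ?_⟩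
  · exact cyclic_of_element hg7 (m := 5 * n) (by omega) (by omega)
  · exact cyclic_of_element hg5 (m := 7 * n) (by omega) (by omega)

theorem alt_seven (e : L ≃* alternatingGroup (Fin 7)) : Listed L := by
  have hc : Nat.card L = 35 * 72 := by
    rw [Nat.card_congr e.toEquiv, nat_card_alternatingGroup, Nat.card_fin]
    rfl
  refine seven_five hc (by norm_num) (by norm_num) (by norm_num) fun {v w} hv hw hne hv7 hw7 =>
    nc_of_orders hv hw hne fun g hg => ?_
  refine AltSpectrum.perm_no_pq hv hw hne ?_ ((e g : alternatingGroup (Fin 7)) : Equiv.Perm (Fin 7))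
    (by rw [Subgroup.orderOf_coe, MulEquiv.orderOf_eq, hg])
  simp only [Finset.mem_insert, Finset.mem_singleton] at hv7 hw7
  omega

theorem psl_three {F : Type} [Field F] [Fintype F] (h4 : Fintype.card F = 4)
    (e : L ≃* Matrix.ProjectiveSpecialLinearGroup (Fin 3) F) : Listed L := by
  have hc : Nat.card L = 35 * 576 := by
    rw [Nat.card_congr e.toEquiv, EppoAlmost.card_psl_three_four h4]
  refine seven_five hc (by norm_num) (by norm_num) (by norm_num) fun {v w} hv hw hne hv7 _ x y hx hy hc' => ?_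
  refine hne (CITExt.prime_eq e h4 hv ?_ hw hx hy hc')
  simp only [Finset.mem_insert, Finset.mem_singleton] at hv7
  omega

/-- The list. -/
theorem listed [IsSimpleGroup L] (hL : ¬ IsMulCommutative L)
    (hI : ∀ t : L, orderOf t = 2 → HasNormalPComplement 2 (centralizer ({t} : Set L))) : Listed L := by
  rcases Cfsg.Agent.S3214.result hL hI with ⟨F, _, _, h3, ⟨e⟩⟩ | ⟨F, _, _, m, hm, hF, ⟨e⟩⟩ | ⟨⟨e⟩⟩ |
    ⟨F, _, _, h4, ⟨e⟩⟩
  · exact psl_two h3 e
  · exact suzuki hm hF (e.trans (Suzuki.lieEquiv hF hm).symm)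
  · exact alt_seven e
  · exact psl_three h4 e

/-- An element of order three or five of a group acting faithfully on `A₆` is inner. -/
theorem six_inner {X : Type u} [Group X] [Finite X] {N : Subgroup X} [N.Normal]
    (e : N ≃* alternatingGroup (Fin 6)) (hC : centralizer (N : Set X) = ⊥) {g : X}
    (hg : orderOf g = 3 ∨ orderOf g = 5) : g ∈ N := by
  set ψ : X →* MulAut (alternatingGroup (Fin 6)) :=
    { toFun := fun g => MulAut.congr e (MulAut.conjNormal (H := N) g)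
      map_one' := by rw [map_one, map_one]
      map_mul' := fun a b => by rw [map_mul, map_mul] }
  have hinj : Function.Injective ψ := by
    rw [injective_iff_map_eq_one]
    intro a ha
    have ha' : MulAut.conjNormal (H := N) a = 1 := (MulAut.congr e).injective (by rw [map_one]; exact ha)
    rw [← Subgroup.mem_bot, ← hC]
    intro v hv
    have h1 := congrArg (fun f : MulAut N => ((f ⟨v, hv⟩ : N) : X)) ha'
    simp only [MulAut.conjNormal_apply, MulAut.one_apply] at h1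
    exact (mul_inv_eq_iff_eq_mul.mp h1).symm
  have ho : orderOf (ψ g) = orderOf g := orderOf_injective ψ hinj g
  have hodd : Odd (orderOf g) := by rcases hg with h | h <;> rw [h] <;> decide
  obtain ⟨σ, hσ⟩ := CfsgLib.AutAltGen.exists_conjNormal 6 (by norm_num) (ψ g)
    (Cfsg.Agent.S4231.Aux.six_threeCycle _ (ho.symm ▸ hodd))
  have hoσ : orderOf σ = orderOf g := by
    rw [← ho, ← hσ]
    exact (orderOf_injective _ (CfsgLib.AutAltGen.conjNormal_injective 6 (by norm_num)) σ).symm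
  have hsign : σ ∈ alternatingGroup (Fin 6) := by
    rw [Equiv.Perm.mem_alternatingGroup]
    rcases Int.units_eq_one_or (Equiv.Perm.sign σ) with h | h
    · exact h
    · exfalso
      have h1 : Equiv.Perm.sign σ ^ orderOf g = 1 := by rw [← map_pow, ← hoσ, pow_orderOf_eq_one, map_one]
      rw [h, hodd.neg_one_pow] at h1
      exact absurd h1 (by decide)
  have h1 : ψ ((e.symm ⟨σ, hsign⟩ : N) : X) = ψ g := by
    rw [← hσ]
    refine MulEquiv.ext fun x => Subtype.ext ?_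
    show ((e (MulAut.conjNormal (H := N) ((e.symm ⟨σ, hsign⟩ : N) : X) (e.symm x)) : alternatingGroup (Fin 6)) :
      Equiv.Perm (Fin 6)) = _
    have h2 : MulAut.conjNormal (H := N) ((e.symm ⟨σ, hsign⟩ : N) : X) (e.symm x) =
        e.symm (⟨σ, hsign⟩ * x * ⟨σ, hsign⟩⁻¹) := by
      refine Subtype.ext ?_
      rw [MulAut.conjNormal_apply, map_mul, map_mul, map_inv]
      rfl
    rw [h2, MulEquiv.apply_symm_apply, MulAut.conjNormal_apply]
    rfl
  exact hinj h1 ▸ SetLike.coe_mem _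

end CfsgLib.ClassThree
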