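import Cfsg.Agent.Lib.ClassThree.Good
import Cfsg.Agent.Lib.ClassThree.Triples
import Cfsg.Agent.Lib.Elementary
import Cfsg.Agent.Lib.PComplement
import Cfsg.Agent.Lib.ZJ.Complement
import Cfsg.Agent.S0205

/-!
Images of a group with two sizes of centralisers without solvable normal subgroups: the simple socle, and the
contradiction from three primes which are pairwise not joined.
-/

set_option autoImplicit false
set_option linter.unusedSectionVars false
set_option linter.style.haveILetI false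

namespace CfsgLib.ClassThree

open Subgroup Cfsg CfsgLib.ConjRankThree
open scoped commutatorElement

universe u v

section Groups

variable {X : Type v} [Group X] [Finite X]

theorem solvable_of_npc {H : Type v} [Group H] [Finite H] (h : HasNormalPComplement 2 H) : Group.IsSolvable H := by
  haveI := Fact.mk Nat.prime_two
  obtain ⟨P, N, hN, hc⟩ := h
  haveI := hN
  have hodd : Odd (Nat.card N) := by
    rw [Nat.odd_iff]
    by_contra h2
    refine P.not_dvd_index ?_
    rw [hc.index_eq_card]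
    omega
  refine (Group.isSolvable_iff_subgroup_quotient N).mpr ⟨Cfsg.Agent.S0205.result hodd, ?_⟩
  haveI : Group.IsNilpotent (P : Subgroup H) := P.2.isNilpotent
  exact Group.isSolvable_of_surjective (f := (QuotientGroup.mk' N).comp (P : Subgroup H).subtype) fun q => by
    obtain ⟨g, rfl⟩ := QuotientGroup.mk'_surjective N q
    obtain ⟨⟨⟨n, hn⟩, ⟨y, hy⟩⟩, e⟩ := hc.2 g
    refine ⟨⟨y, hy⟩, ?_⟩
    show QuotientGroup.mk' N y = QuotientGroup.mk' N g
    have e' : n * y = g := e
    rw [← e', map_mul, show QuotientGroup.mk' N n = 1 from (QuotientGroup.eq_one_iff n).mpr hn, one_mul]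

theorem exists_invol {H : Subgroup X} (h : ¬ Group.IsSolvable H) : ∃ t ∈ H, orderOf t = 2 := by
  haveI := Fact.mk Nat.prime_two
  have h2 : 2 ∣ Nat.card H := by
    by_contra h2
    exact h (Cfsg.Agent.S0205.result (Nat.odd_iff.mpr (by omega)))
  obtain ⟨t, ht⟩ := exists_prime_orderOf_dvd_card' (G := H) 2 h2
  exact ⟨t, t.2, by rw [Subgroup.orderOf_coe, ht]⟩

theorem isSolvable_of_le {H K : Subgroup X} (hle : H ≤ K) (h : Group.IsSolvable K) : Group.IsSolvable H :=
  haveI := h
  Group.isSolvable_of_isSolvable_injective (f := inclusion hle) (inclusion_injective hle)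

/-- The socle of a nonsolvable group without solvable normal subgroups in which the centralisers of involutions
have normal 2-complements. -/
theorem exists_socle (hns : ¬ Group.IsSolvable X)
    (hrad : ∀ N : Subgroup X, N.Normal → Group.IsSolvable N → N = ⊥)
    (hgood : ∀ t : X, orderOf t = 2 → HasNormalPComplement 2 (centralizer ({t} : Set X))) :
    ∃ L : Subgroup X, L.Normal ∧ centralizer (L : Set X) = ⊥ ∧ ⁅L, L⁆ = L ∧ Listed L := by
  haveI := Fact.mk Nat.prime_two
  have hcs : ∀ {t : X}, orderOf t = 2 → ∀ {H : Subgroup X}, (∀ g ∈ H, Commute g t) → Group.IsSolvable H :=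
    fun {t} ht {H} hH => isSolvable_of_le (K := centralizer ({t} : Set X))
      (fun g hg => mem_cent.mpr (hH g hg).eq) (solvable_of_npc (hgood t ht))
  have htop : (⊤ : Subgroup X) ≠ ⊥ := fun e => by
    haveI : Subsingleton X := subsingleton_iff.mp ((subsingleton_iff_bot_eq_top).mp e.symm)
    exact hns inferInstance
  obtain ⟨M, hMn, -, hM0, hMmin⟩ := CfsgLib.exists_minimal_normal (N := (⊤ : Subgroup X)) htop
  haveI := hMn
  have hMns : ¬ Group.IsSolvable M := fun hs => hM0 (hrad M hMn hs)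
  have hC : centralizer (M : Set X) = ⊥ := by
    by_contra hC
    obtain ⟨t, htM, ht⟩ := exists_invol hMns
    exact hC (hrad _ inferInstance (hcs ht fun g hg => (hg t htM).symm))
  haveI : Nontrivial M := (nontrivial_iff_ne_bot M).mpr hM0
  have hsimple : IsSimpleGroup M := by
    refine ⟨fun K hK => ?_⟩
    by_contra hK'
    push Not at hK'
    obtain ⟨N, hNn, hNK, hN0, hNmin⟩ := CfsgLib.exists_minimal_normal (N := K) hK'.1
    set Nx := N.map M.subtype with hNx
    have hNxM : Nx ≤ M := map_subtype_le N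
    have hconj : ∀ (g : X) (m : X), m ∈ M → ∀ v ∈ Nx.map (MulAut.conj g).toMonoidHom,
        m * v * m⁻¹ ∈ Nx.map (MulAut.conj g).toMonoidHom := by
      rintro g m hm _ ⟨v, ⟨w, hw, rfl⟩, rfl⟩
      have hm' : g⁻¹ * m * g ∈ M := hMn.conj_mem' m hm g
      refine ⟨g⁻¹ * m * g * (w : X) * (g⁻¹ * m * g)⁻¹, ⟨⟨_, hm'⟩ * w * ⟨_, hm'⟩⁻¹, hNn.conj_mem w hw _, rfl⟩, ?_⟩
      show g * (g⁻¹ * m * g * (w : X) * (g⁻¹ * m * g)⁻¹) * g⁻¹ = m * (g * (w : X) * g⁻¹) * m⁻¹
      group
    have hcomm : ∀ g : X, Nx.map (MulAut.conj g).toMonoidHom ≠ Nx →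
        ∀ v ∈ Nx.map (MulAut.conj g).toMonoidHom, ∀ w ∈ Nx, Commute v w := by
      intro g hne v hv w hw
      have hle : Nx.map (MulAut.conj g).toMonoidHom ≤ M := by
        rintro _ ⟨z, hz, rfl⟩
        exact hMn.conj_mem z (hNxM hz) g
      set I := (Nx.map (MulAut.conj g).toMonoidHom ⊓ Nx).subgroupOf M
      have hIn : I.Normal := ⟨fun z hz m => by
        obtain ⟨h1, ⟨z', hz', e'⟩⟩ := mem_subgroupOf.mp hz
        refine mem_subgroupOf.mpr ⟨hconj g m m.2 z h1, ⟨m * z' * m⁻¹, hNn.conj_mem z' hz' m, ?_⟩⟩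
        have e'' : (z' : X) = z := e'
        show (m : X) * z' * (m : X)⁻¹ = ((m * z * m⁻¹ : M) : X)
        rw [e'']; rfl⟩
      rcases hNmin I hIn (fun z hz => by
        obtain ⟨-, ⟨z', hz', e'⟩⟩ := mem_subgroupOf.mp hz
        rwa [show z = z' from Subtype.ext e'.symm]) with hI | hI
      · have hz : v * w * v⁻¹ * w⁻¹ ∈ Nx.map (MulAut.conj g).toMonoidHom ⊓ Nx := by
          refine ⟨?_, Nx.mul_mem ?_ (inv_mem hw)⟩
          · have := mul_mem hv (hconj g w (hNxM hw) v⁻¹ (inv_mem hv))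
            rwa [show v * (w * v⁻¹ * w⁻¹) = v * w * v⁻¹ * w⁻¹ by group] at this
          · obtain ⟨w', hw', rfl⟩ := hw
            exact ⟨⟨v, hle hv⟩ * w' * ⟨v, hle hv⟩⁻¹, hNn.conj_mem w' hw' _, rfl⟩
        have hzM : v * w * v⁻¹ * w⁻¹ ∈ M := hNxM hz.2
        have h1 : (⟨_, hzM⟩ : M) ∈ I := mem_subgroupOf.mpr hz
        rw [hI, mem_bot, Subtype.ext_iff, OneMemClass.coe_one] at h1
        exact commutatorElement_eq_one_iff_commute.mp (by rw [commutatorElement_def]; exact h1)
      · refine absurd (eq_of_le_of_card_ge ?_ ?_).symm hne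
        · rintro _ ⟨z, hz, rfl⟩
          exact (mem_subgroupOf.mp (hI.symm ▸ hz : z ∈ I)).1
        · rw [← Nat.card_congr (Nx.equivMapOfInjective _ (MulAut.conj g).injective).toEquiv]
    by_cases hNnorm : Nx.Normal
    · rcases hMmin Nx hNnorm hNxM with e | e
      · exact hN0 ((map_eq_bot_iff_of_injective N M.subtype_injective).mp e)
      · refine hK'.2 (eq_top_iff.mpr fun m _ => hNK ?_)
        obtain ⟨n, hn, e'⟩ := (e.symm ▸ m.2 : (m : X) ∈ Nx)
        rwa [show m = n from Subtype.ext e'.symm]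
    obtain ⟨g0, hg0⟩ : ∃ g : X, Nx.map (MulAut.conj g).toMonoidHom ≠ Nx := by
      by_contra hall
      push Not at hall
      exact hNnorm ⟨fun v hv g => (hall g) ▸ ⟨v, hv, rfl⟩⟩
    have hNs : Group.IsSolvable Nx := by
      by_contra hns'
      obtain ⟨t, ht, ho⟩ := exists_invol hns'
      have h1 := hcs (t := g0 * t * g0⁻¹) (by
        rw [← ho]; exact orderOf_injective (MulAut.conj g0).toMonoidHom (MulAut.conj g0).injective t) (H := Nx)
        fun w hw => (hcomm g0 hg0 _ ⟨t, ht, rfl⟩ w hw).symm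
      exact hns' h1
    haveI := hNs
    have hNab : ∀ v ∈ N, ∀ w ∈ N, Commute v w := by
      haveI := hNn
      haveI : Group.IsSolvable N := Group.isSolvable_of_isSolvable_injective
        (f := (N.equivMapOfInjective _ M.subtype_injective).toMonoidHom)
        (N.equivMapOfInjective _ M.subtype_injective).injective
      haveI : Nontrivial N := (nontrivial_iff_ne_bot N).mpr hN0
      have hlt := Group.IsSolvable.commutator_lt_top_of_nontrivial N
      rcases hNmin ((commutator N).map N.subtype) inferInstance (map_subtype_le _) with e | e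
      · intro v hv w hw
        have h2 : commutator N = ⊥ := (map_eq_bot_iff_of_injective _ N.subtype_injective).mp e
        have h3 : ⁅(⟨v, hv⟩ : N), ⟨w, hw⟩⁆ ∈ commutator N :=
          commutator_mem_commutator (mem_top _) (mem_top _)
        rw [h2, mem_bot, commutatorElement_eq_one_iff_commute] at h3
        exact congrArg Subtype.val h3.eq
      · refine absurd ?_ hlt.ne
        refine map_injective N.subtype_injective ?_
        rw [e, ← MonoidHom.range_eq_map, range_subtype]
    have hcl : ∀ x ∈ Group.conjugatesOfSet (Nx : Set X), ∀ y ∈ Group.conjugatesOfSet (Nx : Set X), x * y = y * x := by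
      intro x hx y hy
      rw [Group.mem_conjugatesOfSet_iff] at hx hy
      obtain ⟨v, hv, hxv⟩ := hx
      obtain ⟨w, hw, hyw⟩ := hy
      obtain ⟨g, rfl⟩ := isConj_iff.mp hxv
      obtain ⟨g', rfl⟩ := isConj_iff.mp hyw
      have key : Commute (g'⁻¹ * g * v * (g'⁻¹ * g)⁻¹) w := by
        by_cases he : Nx.map (MulAut.conj (g'⁻¹ * g)).toMonoidHom = Nx
        · obtain ⟨v', hv', e1⟩ := (he ▸ ⟨v, hv, rfl⟩ : (g'⁻¹ * g * v * (g'⁻¹ * g)⁻¹) ∈ Nx)
          obtain ⟨w', hw', e2⟩ := hw
          rw [← e1, ← e2]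
          exact congrArg Subtype.val (hNab v' hv' w' hw').eq
        · exact hcomm _ he _ ⟨v, hv, rfl⟩ w hw
      calc g * v * g⁻¹ * (g' * w * g'⁻¹) = g' * (g'⁻¹ * g * v * (g'⁻¹ * g)⁻¹ * w) * g'⁻¹ := by group
        _ = g' * (w * (g'⁻¹ * g * v * (g'⁻¹ * g)⁻¹)) * g'⁻¹ := by rw [key.eq]
        _ = _ := by group
    haveI : IsMulCommutative (closure (Group.conjugatesOfSet (Nx : Set X))) :=
      Subgroup.isMulCommutative_closure (k := Group.conjugatesOfSet (Nx : Set X)) hcl
    have h5 : Group.IsSolvable (closure (Group.conjugatesOfSet (Nx : Set X))) :=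
      Group.isSolvable_of_comm fun x y => mul_comm' x y
    have h4 : normalClosure (Nx : Set X) = ⊥ := hrad _ normalClosure_normal h5
    refine hN0 ((map_eq_bot_iff_of_injective N M.subtype_injective).mp ?_)
    exact le_bot_iff.mp (h4 ▸ le_normalClosure)
  haveI := hsimple
  have hperf : ⁅M, M⁆ = M := by
    rcases (inferInstance : (commutator M).Normal).eq_bot_or_eq_top with e | e
    · refine absurd (Group.isSolvable_of_comm fun x y => ?_) hMns
      have h1 : ⁅x, y⁆ ∈ commutator M := commutator_mem_commutator (mem_top _) (mem_top _)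
      rw [e, mem_bot, commutatorElement_eq_one_iff_commute] at h1
      exact h1.eq
    · rw [← map_subtype_commutator, e, ← MonoidHom.range_eq_map, range_subtype]
  refine ⟨M, hMn, hC, hperf, listed (fun hc => hMns (Group.isSolvable_of_comm fun x y => hc.is_comm.comm x y)) fun t ht => ?_⟩
  have hto : orderOf (t : X) = 2 := by rw [Subgroup.orderOf_coe, ht]
  refine CfsgLib.ZJ.hasNormalPComplement_of_isPGroup_map M.subtype_injective
    (CfsgLib.ZJ.hasNormalPComplement_of_le ?_ (hgood t hto))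
  rintro _ ⟨g, hg, rfl⟩
  exact mem_cent.mpr (congrArg Subtype.val (mem_cent.mp hg))

theorem NC.absurd {L : Subgroup X} {r p : ℕ} (h : NC L r p) (hr : r.Prime) (hp : p.Prime) {x y : X} {i j : ℕ}
    (hxL : x ∈ L) (hyL : y ∈ L) (hx : orderOf x = r ^ i) (hy : orderOf y = p ^ j) (hx1 : x ≠ 1) (hy1 : y ≠ 1)
    (hc : Commute x y) : False := by
  have aux : ∀ {z : X} {q k : ℕ}, q.Prime → z ∈ L → orderOf z = q ^ k → z ≠ 1 →
      ∃ n : ℕ, ∃ hn : z ^ n ∈ L, orderOf (⟨z ^ n, hn⟩ : L) = q := by
    intro z q k hq hz ho h1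
    have hk : k ≠ 0 := fun e => h1 (by rwa [e, pow_zero, orderOf_eq_one_iff] at ho)
    refine ⟨q ^ (k - 1), pow_mem hz _, ?_⟩
    rw [Subgroup.orderOf_mk, orderOf_pow_of_dvd (pow_ne_zero _ hq.ne_zero)
      (ho ▸ pow_dvd_pow q (by omega)), ho, Nat.pow_div (by omega) hq.pos, show k - (k - 1) = 1 by omega, pow_one]
  obtain ⟨n, hn, hn'⟩ := aux hr hxL hx hx1
  obtain ⟨m, hm, hm'⟩ := aux hp hyL hy hy1
  exact h _ _ hn' hm' (Subtype.ext (hc.pow_pow n m).eq)

end Groups

variable {G : Type u} [Group G] [Finite G] {a b : ℕ} {X : Type v} [Group X] [Finite X]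

theorem exists_in_image {π : G →* X} (hπ : Function.Surjective π) {L : Subgroup X} [hL : L.Normal] {p : ℕ}
    [Fact p.Prime] (hp : ∃ x : L, orderOf x = p) (P : Sylow p G) :
    ∃ g ∈ (P : Subgroup G), π g ∈ L ∧ π g ≠ 1 ∧ ∃ j, orderOf (π g) = p ^ j := by
  obtain ⟨y, hy⟩ := hp
  have hyo : orderOf (y : X) = p ^ 1 := by rw [Subgroup.orderOf_coe, hy, pow_one]
  obtain ⟨Q, hQ⟩ := exists_sylow_of_mem ⟨1, hyo⟩
  obtain ⟨c, hc⟩ := MulAction.exists_smul_eq X Q (P.mapSurjective hπ)
  have hmem : c * y * c⁻¹ ∈ ((P.mapSurjective hπ : Sylow p X) : Subgroup X) := by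
    rw [← hc, Sylow.coe_subgroup_smul]; exact ⟨y, hQ, rfl⟩
  rw [Sylow.coe_mapSurjective] at hmem
  obtain ⟨g, hg, e⟩ := hmem
  have ho : orderOf (π g) = p ^ 1 := by
    rw [show π g = c * y * c⁻¹ from e, ← hyo]
    exact orderOf_injective (MulAut.conj c).toMonoidHom (MulAut.conj c).injective (y : X)
  exact ⟨g, hg, e ▸ hL.conj_mem _ y.2 c, fun e1 => (Fact.out : p.Prime).ne_one
    (by rw [← pow_one p, ← ho, e1, orderOf_one]), 1, ho⟩

theorem noncentral_of_image {π : G →* X} (hker : center G ≤ π.ker) {g : G} (h : π g ≠ 1) : g ∉ center G :=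
  fun hg => h (MonoidHom.mem_ker.mp (hker hg))

/-- Three primes pairwise not joined, one with an element in the socle whose centraliser contains a Sylow subgroup,
a second with a noncentral element centralised by one. -/
theorem no_triple (h : Two G a b) {π : G →* X} (hπ : Function.Surjective π) (hker : center G ≤ π.ker)
    {L : Subgroup X} [L.Normal] {r p u : ℕ} (T : Triple L r p u)
    {y : G} {i : ℕ} (hy : orderOf (π y) = r ^ i) (hyL : π y ∈ L) (hy1 : π y ≠ 1)
    (hyfull : r ^ (Nat.card G).factorization r ∣ cc y)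
    {x : G} (hx : x ∉ center G) (hxfull : p ^ (Nat.card G).factorization p ∣ cc x) : False := by
  haveI := Fact.mk T.hr
  haveI := Fact.mk T.hp
  have key : ∀ {q s k : ℕ} [Fact q.Prime], s.Prime → (∃ x : L, orderOf x = q) → NC L s q → ∀ {z : G},
      π z ∈ L → π z ≠ 1 → orderOf (π z) = s ^ k → q ^ (Nat.card G).factorization q ∣ cc z → False := by
    intro q s k _ hs hq hnc z hzL hz1 hzo hd
    obtain ⟨P, hP⟩ := exists_sylow_le' hd
    obtain ⟨g, hg, hgL, hg1, j, hj⟩ := exists_in_image hπ hq P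
    exact hnc.absurd hs Fact.out hzL hgL hzo hj hz1 hg1
      ((show Commute z g from (mem_cent.mp (hP hg)).symm).map π)
  obtain ⟨w, hw⟩ := T.eu
  obtain ⟨v, hv⟩ := hπ (w : X)
  have hvo : orderOf (π v) = u ^ 1 := by rw [hv, Subgroup.orderOf_coe, hw, pow_one]
  have hvL : π v ∈ L := hv ▸ w.2
  have hv1 : π v ≠ 1 := fun e => T.hu.ne_one (by rw [← pow_one u, ← hvo, e, orderOf_one])
  by_cases he : cc y = cc x
  · exact key T.hr T.ep T.nrp hyL hy1 hy (he ▸ hxfull)
  · rcases h.vals y (noncentral_of_image hker hy1) with e1 | e1 <;> rcases h.vals x hx with e2 | e2 <;>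
      rcases h.vals v (noncentral_of_image hker hv1) with e3 | e3
    all_goals first
      | exact he (e1.trans e2.symm)
      | exact key T.hu T.er T.nru.symm hvL hv1 hvo (by rw [e3, ← e1]; exact hyfull)
      | exact key T.hu T.ep T.npu.symm hvL hv1 hvo (by rw [e3, ← e2]; exact hxfull)

/-- The group of order 360. -/
theorem no_triple_six (h : Two G a b) {π : G →* X} (hπ : Function.Surjective π) (hker : π.ker = center G)
    {L : Subgroup X} [L.Normal] (T : Triple L 5 3 2) (hin : ∀ g : X, orderOf g = 3 ∨ orderOf g = 5 → g ∈ L) :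
    False := by
  have hlift : ∀ {v : ℕ}, v.Prime → (∃ x : L, orderOf x = v) →
      ∃ y : G, π y ∈ L ∧ π y ≠ 1 ∧ orderOf (π y) = v := fun {v} hv ⟨w, hw⟩ => by
    obtain ⟨y, hy⟩ := hπ (w : X)
    have ho : orderOf (π y) = v := by rw [hy, Subgroup.orderOf_coe, hw]
    exact ⟨y, hy ▸ w.2, fun e => hv.ne_one (by rw [← ho, e, orderOf_one]), ho⟩
  obtain ⟨y5, h5L, h51, h5⟩ := hlift T.hr T.er
  obtain ⟨y3, h3L, h31, h3⟩ := hlift T.hp T.ep
  obtain ⟨y2, h2L, h21, h2⟩ := hlift T.hu T.eu
  have himg : ∀ {y z : G}, cc y = cc z →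
      Nat.card ((centralizer ({y} : Set G)).map π) = Nat.card ((centralizer ({z} : Set G)).map π) := by
    intro y z hyz
    have hle : ∀ y : G, π.ker ≤ centralizer ({y} : Set G) := fun y g hg =>
      mem_cent.mpr (mem_center_iff.mp (hker ▸ hg) y).symm
    have hi : (centralizer ({y} : Set G)).index = (centralizer ({z} : Set G)).index := by
      have e1 : cc y * _ = _ := (centralizer ({y} : Set G)).card_mul_index
      have e2 : cc z * _ = _ := (centralizer ({z} : Set G)).card_mul_index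
      exact Nat.eq_of_mul_eq_mul_left (cc_pos z) (by rw [e2]; rwa [hyz] at e1)
    rw [← index_map_eq _ hπ (hle y), ← index_map_eq _ hπ (hle z)] at hi
    have e1 := ((centralizer ({y} : Set G)).map π).card_mul_index
    have e2 := ((centralizer ({z} : Set G)).map π).card_mul_index
    rw [hi] at e1
    exact Nat.eq_of_mul_eq_mul_right (Nat.pos_of_ne_zero index_ne_zero_of_finite) (e1.trans e2.symm)
  have hself : ∀ y : G, orderOf (π y) ∣ Nat.card ((centralizer ({y} : Set G)).map π) := fun y =>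
    Subgroup.orderOf_dvd_natCard _ ⟨y, self_mem y, rfl⟩
  have hnot : ∀ {y : G} {v w : ℕ}, π y ∈ L → orderOf (π y) = v → w = 3 ∨ w = 5 → NC L v w →
      ¬ w ∣ Nat.card ((centralizer ({y} : Set G)).map π) := by
    intro y v w hyL hyv hw hnc hd
    haveI : Fact w.Prime := ⟨by rcases hw with rfl | rfl <;> norm_num⟩
    obtain ⟨⟨_, g, hg, rfl⟩, hgo⟩ := exists_prime_orderOf_dvd_card' _ hd
    rw [← Subgroup.orderOf_coe] at hgo
    replace hgo : orderOf (π g) = w := hgo
    have hgL : π g ∈ L := hin _ (by rw [hgo]; exact hw)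
    exact hnc ⟨_, hyL⟩ ⟨_, hgL⟩ (by rw [Subgroup.orderOf_mk, hyv]) (by rw [Subgroup.orderOf_mk, hgo])
      (Subtype.ext ((show Commute y g from (mem_cent.mp hg).symm).map π).eq)
  have h53 : cc y5 ≠ cc y3 := fun e => hnot h5L h5 (Or.inl rfl) T.nrp (by rw [himg e, ← h3]; exact hself y3)
  have h52 : cc y5 ≠ cc y2 := fun e =>
    hnot h2L h2 (Or.inr rfl) T.nru.symm (by rw [← himg e, ← h5]; exact hself y5)
  have h32 : cc y3 ≠ cc y2 := fun e =>
    hnot h2L h2 (Or.inl rfl) T.npu.symm (by rw [← himg e, ← h3]; exact hself y3)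
  have hk : center G ≤ π.ker := hker.ge
  rcases h.vals y5 (noncentral_of_image hk h51) with e1 | e1 <;>
    rcases h.vals y3 (noncentral_of_image hk h31) with e2 | e2 <;>
    rcases h.vals y2 (noncentral_of_image hk h21) with e3 | e3
  all_goals first
    | exact h53 (e1.trans e2.symm)
    | exact h52 (e1.trans e3.symm)
    | exact h32 (e2.trans e3.symm)

end CfsgLib.ClassThree
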