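import Cfsg.Agent.Lib.ClassThree.GoodCore
import Cfsg.Agent.Lib.SylowExtra

/-!
With two sizes of noncentral centralisers in a nonsolvable group, the centraliser of every noncentral element of
2-power order has a normal 2-complement.
-/

set_option autoImplicit false
set_option linter.unusedSectionVars false
set_option linter.style.haveILetI false

namespace CfsgLib.ClassThree

open Subgroup Cfsg CfsgLib.ConjRankThree

universe u

variable {G : Type u} [Group G] [Finite G] {a b : ℕ}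

theorem PX.dvd_card {s : ℕ} (h : PX G s) : s ∣ Nat.card G := by
  obtain ⟨hs, y, hy, k, hk⟩ := h
  have hk0 : k ≠ 0 := fun e => hy (by rw [e, pow_zero, orderOf_eq_one_iff] at hk; rw [hk]; exact one_mem _)
  exact ((dvd_pow_self s hk0).trans (hk ▸ dvd_rfl)).trans (orderOf_dvd_natCard y)

theorem exists_conj_mem_of_index {C : Type u} [Group C] [Finite C] {D : Subgroup C} {s : ℕ} [Fact s.Prime]
    (hD : ¬ s ∣ D.index) {v : C} (hv : ∃ k, orderOf v = s ^ k) : ∃ c : C, c * v * c⁻¹ ∈ D := by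
  obtain ⟨P, hP⟩ := CfsgLib.exists_sylow_le_of_not_dvd_index D hD
  obtain ⟨Q, hQ⟩ := exists_sylow_of_mem hv
  obtain ⟨c, hc⟩ := MulAction.exists_smul_eq C Q P
  refine ⟨c, hP ?_⟩
  rw [← hc, Sylow.coe_subgroup_smul]
  exact ⟨v, hQ, rfl⟩

namespace Two

variable (h : Two G a b)
include h

theorem index_in {z : G} (hz : z ∉ center G) {C : Subgroup G} (hC : centralizer ({z} : Set G) = C) (w : C)
    (hco : (orderOf z).Coprime (orderOf w)) (hw : w ∉ center C) :
    (centralizer ({w} : Set C)).index = a / b := by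
  subst hC
  exact h.index_regular hz w (by rwa [Subgroup.orderOf_coe]) hw

theorem shape_in {z : G} (hz : z ∉ center G) {C : Subgroup G} (hC : centralizer ({z} : Set G) = C) {s k : ℕ}
    (hs : s.Prime) (ho : orderOf z = s ^ k) {w0 : C} (hw0 : (orderOf w0).Coprime s) (hw0c : w0 ∉ center C) :
    (∀ u : ℕ, u.Prime → u ∣ a / b → u = s) ∨
      ∃ q : ℕ, q.Prime ∧ q ≠ s ∧ (∀ u : ℕ, u.Prime → u ∣ a / b → u = s ∨ u = q) ∧
        ∀ (v : C) (u k : ℕ), u.Prime → u ≠ s → u ≠ q → orderOf v = u ^ k → v ∈ center C :=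
  shape hs (fun w hw hwc => h.index_in hz hC w (ho ▸ (hw.symm.pow_left k)) hwc) hw0 hw0c

theorem dvd_a (hba : b ∣ a) {y : G} (hy : y ∉ center G) : cc y ∣ a := by
  rcases h.vals y hy with e | e <;> rw [e]
  exact hba

theorem eq_of_le_a {x u : G} (hxa : cc x = a) (hu : u ∉ center G)
    (hle : centralizer ({x} : Set G) ≤ centralizer ({u} : Set G)) :
    centralizer ({u} : Set G) = centralizer ({x} : Set G) := by
  refine (eq_of_le_of_card_ge hle ?_).symm
  have h1 : cc x ≤ cc u := Nat.le_of_dvd (cc_pos u) (cc_le_of_le hle)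
  rcases h.vals u hu with e | e
  · exact (e.trans hxa.symm).le
  · have := h.lt
    omega

theorem div_mul (hba : b ∣ a) : a = a / b * b := (Nat.div_mul_cancel hba).symm

theorem div_ne_one (hba : b ∣ a) : a / b ≠ 1 := fun e => by
  have h1 := h.div_mul hba
  rw [e, one_mul] at h1
  exact (h1 ▸ h.lt).false

/-- A noncentral element of a central prime in the big centraliser gives the other shape. -/
theorem central_absurd {x : G} (hxa : cc x = a) {u : centralizer ({x} : Set G)} {s t k l : ℕ} (hs : s.Prime)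
    (hs2 : s ≠ 2) (ht : t.Prime) (hts : t ≠ s) (ht2 : t ≠ 2) (hm2 : 2 ∣ a / b) (hu : orderOf u = s ^ k)
    (huG : (u : G) ∉ center G) (huc : u ∈ center (centralizer ({x} : Set G)))
    {w : centralizer ({x} : Set G)} (hw : orderOf w = t ^ l) (hwc : w ∉ center (centralizer ({x} : Set G))) :
    False := by
  have hC := h.eq_of_le_a hxa huG ((mem_center_sub_iff u).mp huc)
  have hco : (orderOf w).Coprime s := hw ▸ ((Nat.coprime_primes ht hs).mpr hts).pow_left l
  rcases h.shape_in huG hC hs (by rw [Subgroup.orderOf_coe, hu]) hco hwc with h1 | ⟨q, -, -, h1, h2⟩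
  · exact hs2 (h1 2 Nat.prime_two hm2).symm
  · have hq : q = 2 := ((h1 2 Nat.prime_two hm2).resolve_left hs2.symm).symm
    exact hwc (h2 w t l ht hts (hq ▸ ht2) hw)

/-- The case of an odd prime in the ratio. -/
theorem good_odd {x : G} (hx : x ∉ center G) {k : ℕ} (ho : orderOf x = 2 ^ k) (hxa : cc x = a) (hba : b ∣ a)
    {q0 : ℕ} (hq0 : q0.Prime) (hq02 : q0 ≠ 2) (hq0d : q0 ∣ a / b) {r0 l : ℕ}
    {w : centralizer ({x} : Set G)} (hr0 : r0.Prime) (hr02 : r0 ≠ 2) (hw : orderOf w = r0 ^ l)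
    (hwc : w ∉ center (centralizer ({x} : Set G))) :
    HasNormalPComplement 2 (centralizer ({x} : Set G)) := by
  have hco : (orderOf w).Coprime 2 := hw ▸ ((Nat.coprime_primes hr0 Nat.prime_two).mpr hr02).pow_left l
  rcases h.shape_in hx rfl Nat.prime_two ho hco hwc with h1 | ⟨q, -, -, h1, h2⟩
  · exact absurd (h1 q0 hq0 hq0d) hq02
  have hq : q = q0 := ((h1 q0 hq0 hq0d).resolve_left hq02).symm
  subst hq
  obtain ⟨s, hs, hs2, hsq⟩ := exists_third_prime h.ns Nat.prime_two hq0
  haveI := Fact.mk hs.1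
  obtain ⟨-, y, hy, j, hj⟩ := id hs
  obtain ⟨v, hvC, hv, i, hi⟩ := exists_primary_in (s := s) (H := (centralizer ({x} : Set G)))
    (fun g hg => mem_cent.mpr (mem_center_iff.mp hg x).symm) hy hj
    (show cc y ∣ Nat.card (centralizer ({x} : Set G)) from (h.dvd_a hba hy).trans hxa.symm.dvd)
  have hvc : (⟨v, hvC⟩ : (centralizer ({x} : Set G))) ∈ center (centralizer ({x} : Set G)) :=
    h2 ⟨v, hvC⟩ s i hs.1 hs2 hsq (by rw [Subgroup.orderOf_mk, hi])
  have hCv := h.eq_of_le_a hxa hv ((mem_center_sub_iff (⟨v, hvC⟩ : (centralizer ({x} : Set G)))).mp hvc)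
  have hr0q : r0 = q := by
    by_contra e
    exact hwc (h2 w r0 l hr0 hr02 e hw)
  have hws : (orderOf w).Coprime s := hw ▸ ((Nat.coprime_primes hr0 hs.1).mpr (hr0q ▸ hsq.symm)).pow_left l
  rcases h.shape_in hv hCv hs.1 hi hws hwc with h3 | ⟨q', -, -, h3, h4⟩
  · exact absurd (h3 q hq0 hq0d).symm hsq
  have hq' : q' = q := ((h3 q hq0 hq0d).resolve_left hsq.symm).symm
  exact normalComplement_of_two_central fun u n hu =>
    h4 u 2 n Nat.prime_two hs2.symm (hq' ▸ hq02.symm) hu

/-- The case of a 2-power ratio. -/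
theorem good_two_pow {x : G} (hx : x ∉ center G) {k : ℕ} (ho : orderOf x = 2 ^ k) (hxa : cc x = a) (hba : b ∣ a)
    (hm : ∀ u : ℕ, u.Prime → u ∣ a / b → u = 2) {r0 l : ℕ} {w : centralizer ({x} : Set G)} (hr0 : r0.Prime)
    (hr02 : r0 ≠ 2) (hw : orderOf w = r0 ^ l) (hwc : w ∉ center (centralizer ({x} : Set G))) :
    HasNormalPComplement 2 (centralizer ({x} : Set G)) := by
  classical
  haveI := Fact.mk Nat.prime_two
  haveI : Group.IsSolvable (centralizer ({x} : Set G)) := h.solvable_cent hx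
  have hZC : center G ≤ (centralizer ({x} : Set G)) := fun g hg => mem_cent.mpr (mem_center_iff.mp hg x).symm
  have hm0 : a / b ≠ 0 := fun e => by
    have h1 := h.div_mul hba
    rw [e, zero_mul] at h1
    have h2 := h.lt
    omega
  obtain ⟨e, he⟩ : ∃ e, a / b = 2 ^ e := ⟨_, Nat.eq_prime_pow_of_unique_prime_dvd hm0 fun {d} hd hdd => hm d hd hdd⟩
  have he0 : e ≠ 0 := fun e0 => h.div_ne_one hba (by rw [he, e0, pow_zero])
  have hm2 : 2 ∣ a / b := he ▸ dvd_pow_self 2 he0
  -- (i) odd primary elements central in `(centralizer ({x} : Set G))` are central in `G`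
  have hi : ∀ (s j : ℕ) (u : (centralizer ({x} : Set G))), s.Prime → s ≠ 2 → orderOf u = s ^ j → u ∈ center (centralizer ({x} : Set G)) → (u : G) ∈ center G := by
    intro s j u hs hs2 hu huc
    by_contra huG
    by_cases hsr : r0 = s
    · obtain ⟨t, ht, ht2, hts⟩ := exists_third_prime h.ns Nat.prime_two hs
      haveI := Fact.mk ht.1
      obtain ⟨-, y, hy, i, hyi⟩ := id ht
      obtain ⟨v, hvC, hv, i', hvi⟩ := exists_primary_in (s := t) (H := (centralizer ({x} : Set G))) hZC hy hyi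
        (show cc y ∣ Nat.card (centralizer ({x} : Set G)) from (h.dvd_a hba hy).trans hxa.symm.dvd)
      have hvi' : orderOf (⟨v, hvC⟩ : (centralizer ({x} : Set G))) = t ^ i' := by rw [Subgroup.orderOf_mk, hvi]
      by_cases hvc : (⟨v, hvC⟩ : (centralizer ({x} : Set G))) ∈ center (centralizer ({x} : Set G))
      · exact h.central_absurd hxa ht.1 ht2 hr0 (hsr ▸ hts.symm) hr02 hm2 hvi' hv hvc hw hwc
      · exact h.central_absurd hxa hs hs2 ht.1 hts ht2 hm2 hu huG huc hvi' hvc
    · exact h.central_absurd hxa hs hs2 hr0 hsr hr02 hm2 hu huG huc hw hwc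
  -- the abelian Hall subgroup
  obtain ⟨D, hDc, hD2, d, hd⟩ := (Cfsg.Agent.S4034.result (G := (centralizer ({x} : Set G))) Nat.prime_two).mp fun v hv => by
    rw [CfsgLib.ncard_carrier_eq_index_centralizer]
    by_cases hvc : v ∈ center (centralizer ({x} : Set G))
    · exact ⟨0, index_eq_one_iff.mpr hvc⟩
    · exact ⟨e, (h.index_in hx rfl v (ho ▸ hv.symm.pow_left k) hvc).trans he⟩
  have hDodd : Odd (Nat.card D) := Nat.odd_iff.mpr (by omega)
  have hDcomm : ∀ u ∈ D, ∀ v ∈ D, u * v = v * u := fun u hu v hv =>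
    congrArg Subtype.val (hDc.is_comm.comm ⟨u, hu⟩ ⟨v, hv⟩)
  have hDidx : ∀ {s : ℕ}, s.Prime → s ≠ 2 → ¬ s ∣ D.index := fun {s} hs hs2 hdv =>
    hs2 ((Nat.prime_dvd_prime_iff_eq hs Nat.prime_two).mp (hs.dvd_of_dvd_pow (hd ▸ hdv)))
  have hconj : ∀ {s j : ℕ} {u : (centralizer ({x} : Set G))}, s.Prime → s ≠ 2 → orderOf u = s ^ j → u ∉ center (centralizer ({x} : Set G)) →
      ∃ v ∈ D, orderOf v = s ^ j ∧ v ∉ center (centralizer ({x} : Set G)) := by
    intro s j u hs hs2 hu huc
    haveI := Fact.mk hs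
    obtain ⟨c, hc⟩ := exists_conj_mem_of_index (hDidx hs hs2) ⟨j, hu⟩
    refine ⟨_, hc, ?_, fun hz => huc ?_⟩
    · rw [← hu]; exact orderOf_injective (MulAut.conj c).toMonoidHom (MulAut.conj c).injective u
    · have e1 := mem_center_iff.mp hz c
      rw [show c * u * c⁻¹ * c = c * u by group] at e1
      rwa [mul_left_cancel e1] at hz
  have hPXD : ∀ {s : ℕ}, PX G s → s ≠ 2 → ∃ v ∈ D, ∃ j, orderOf v = s ^ j ∧ v ∉ center (centralizer ({x} : Set G)) := by
    intro s hs hs2
    haveI := Fact.mk hs.1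
    obtain ⟨-, y, hy, i, hyi⟩ := id hs
    obtain ⟨v, hvC, hv, i', hvi⟩ := exists_primary_in (s := s) (H := (centralizer ({x} : Set G))) hZC hy hyi
      (show cc y ∣ Nat.card (centralizer ({x} : Set G)) from (h.dvd_a hba hy).trans hxa.symm.dvd)
    have hvi' : orderOf (⟨v, hvC⟩ : (centralizer ({x} : Set G))) = s ^ i' := by rw [Subgroup.orderOf_mk, hvi]
    obtain ⟨v', hv', ho', hn'⟩ := hconj hs.1 hs2 hvi' fun hc => hv (hi s i' _ hs.1 hs2 hvi' hc)
    exact ⟨v', hv', i', ho', hn'⟩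
  have hoddD : ∀ {v : (centralizer ({x} : Set G))}, v ∈ D → Odd (orderOf v) := fun hv =>
    hDodd.of_dvd_nat (Subgroup.orderOf_dvd_natCard D hv)
  have hidxD : ∀ {v : (centralizer ({x} : Set G))}, v ∈ D → v ∉ center (centralizer ({x} : Set G)) → cc v * 2 ^ e = Nat.card (centralizer ({x} : Set G)) := fun {v} hv hvc => by
    rw [← he, ← h.index_in hx rfl v (ho ▸ (Nat.coprime_two_left.mpr (hoddD hv)).pow_left k) hvc]
    exact card_mul_index _
  have hcle : ∀ {u v : (centralizer ({x} : Set G))}, u ∈ D → u ∉ center (centralizer ({x} : Set G)) → v ∈ D → v ∉ center (centralizer ({x} : Set G)) →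
      centralizer ({u} : Set (centralizer ({x} : Set G))) ≤ centralizer ({v} : Set (centralizer ({x} : Set G))) →
      centralizer ({u} : Set (centralizer ({x} : Set G))) = centralizer ({v} : Set (centralizer ({x} : Set G))) := fun {u v} hu huc hv hvc hle => by
    refine eq_of_le_of_card_ge hle (le_of_eq ?_)
    exact (Nat.eq_of_mul_eq_mul_right (by positivity) ((hidxD hv hvc).trans (hidxD hu huc).symm))
  have hpair : ∀ {u v : (centralizer ({x} : Set G))} {p q i j : ℕ}, u ∈ D → u ∉ center (centralizer ({x} : Set G)) → v ∈ D → v ∉ center (centralizer ({x} : Set G)) → p.Prime → q.Prime →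
      p ≠ q → orderOf u = p ^ i → orderOf v = q ^ j →
      centralizer ({u} : Set (centralizer ({x} : Set G))) = centralizer ({v} : Set (centralizer ({x} : Set G))) := by
    intro u v p q i j hu huc hv hvc hp hq hpq hou hov
    have hc : Commute u v := hDcomm u hu v hv
    have hco := coprime_of_not_eq hp hq hpq ⟨i, hou⟩ ⟨j, hov⟩
    have huv := noncentral_mul huc hc hco
    have hmul := mul_cent hc hco
    rw [← hcle (mul_mem hu hv) huv hu huc (hmul.le.trans inf_le_left),
      hcle (mul_mem hu hv) huv hv hvc (hmul.le.trans inf_le_right)]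
  have hw0G : (w : G) ∉ center G := fun hz => hwc (mem_center_iff.mpr fun g => Subtype.ext (mem_center_iff.mp hz g))
  have hPr0 : PX G r0 := ⟨hr0, w, hw0G, l, by rw [Subgroup.orderOf_coe, hw]⟩
  obtain ⟨t, ht, ht2, htr⟩ := exists_third_prime h.ns Nat.prime_two hr0
  obtain ⟨u0, hu0, i0, hou0, hu0c⟩ := hPXD hPr0 hr02
  obtain ⟨v0, hv0, j0, hov0, hv0c⟩ := hPXD ht ht2
  have huv0 := hpair hu0 hu0c hv0 hv0c hr0 ht.1 htr.symm hou0 hov0
  have hbase : ∀ u ∈ D, u ∉ center (centralizer ({x} : Set G)) → centralizer ({u} : Set (centralizer ({x} : Set G))) = centralizer ({u0} : Set (centralizer ({x} : Set G))) := by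
    intro u hu huc
    obtain ⟨i, p, j, hp, hop, hpc⟩ := exists_primary_noncentral _ u le_rfl huc
    have hui := pow_mem hu i
    rw [hcle hu huc hui hpc (cent_le_pow u i)]
    by_cases hp0 : p = r0
    · rw [huv0]
      exact hpair hui hpc hv0 hv0c hp ht.1 (hp0 ▸ htr.symm) hop hov0
    · exact hpair hui hpc hu0 hu0c hp hr0 hp0 hop hou0
  have hsame : ∀ u ∈ D, u ∉ center (centralizer ({x} : Set G)) → ∀ v ∈ D, centralizer ({u} : Set (centralizer ({x} : Set G))) ≤ centralizer ({v} : Set (centralizer ({x} : Set G))) := by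
    intro u hu huc v hv
    by_cases hvc : v ∈ center (centralizer ({x} : Set G))
    · exact fun g _ => mem_cent.mpr (mem_center_iff.mp hvc g)
    · rw [hbase u hu huc, hbase v hv hvc]
  rcases hall_cyclic hDcomm hDodd hd hsame with hgood | hcyc
  · exact hgood
  exfalso
  -- the largest odd prime and another one
  set T := (Nat.card G).divisors.filter fun s => s ≠ 2 ∧ PX G s with hT
  have hmem : ∀ {s : ℕ}, PX G s → s ≠ 2 → s ∈ T := fun hs hs2 =>
    Finset.mem_filter.mpr ⟨Nat.mem_divisors.mpr ⟨hs.dvd_card, Nat.card_pos.ne'⟩, hs2, hs⟩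
  have hTne : T.Nonempty := ⟨r0, hmem hPr0 hr02⟩
  obtain ⟨-, hr2, hr⟩ := Finset.mem_filter.mp (T.max'_mem hTne)
  set r := T.max' hTne
  obtain ⟨s, hs, hs2, hsr⟩ : ∃ s, PX G s ∧ s ≠ 2 ∧ s < r := by
    rcases eq_or_ne r0 r with e1 | e1
    · exact ⟨t, ht, ht2, lt_of_le_of_ne (T.le_max' t (hmem ht ht2)) (e1 ▸ htr)⟩
    · exact ⟨r0, hPr0, hr02, lt_of_le_of_ne (T.le_max' r0 (hmem hPr0 hr02)) e1⟩
  haveI := Fact.mk hr.1
  haveI := Fact.mk hs.1
  obtain ⟨R, hR⟩ := CfsgLib.exists_sylow_le_of_not_dvd_index D (hDidx hr.1 hr2)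
  obtain ⟨S, hS⟩ := CfsgLib.exists_sylow_le_of_not_dvd_index D (hDidx hs.1 hs2)
  have hmemS : ∀ {v : (centralizer ({x} : Set G))} {p : ℕ} [Fact p.Prime] (P : Sylow p (centralizer ({x} : Set G))), (P : Subgroup (centralizer ({x} : Set G))) ≤ D → v ∈ D →
      (∃ j, orderOf v = p ^ j) → v ∈ (P : Subgroup (centralizer ({x} : Set G))) := by
    intro v p _ P hP hv hvp
    obtain ⟨j, hj⟩ := hvp
    exact CfsgLib.mem_sylow_of_mem_centralizer P ⟨j, by rw [← hj, pow_orderOf_eq_one]⟩
      fun y hy => hDcomm v hv y (hP hy)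
  obtain ⟨ev, hev, ej, hoe, hec⟩ := hPXD hr hr2
  have heR := hmemS R hR hev ⟨ej, hoe⟩
  set S1 := (S : Subgroup (centralizer ({x} : Set G))).map (centralizer ({x} : Set G)).subtype
  set R1 := (R : Subgroup (centralizer ({x} : Set G))).map (centralizer ({x} : Set G)).subtype
  have heG : (ev : G) ∉ center G := fun hz =>
    hec (mem_center_iff.mpr fun g => Subtype.ext (mem_center_iff.mp hz g))
  have hxev : Commute x (ev : G) := (mem_cent.mp ev.2).symm
  have hcoxe : (orderOf x).Coprime (orderOf (ev : G)) := by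
    rw [ho, Subgroup.orderOf_coe]
    exact (Nat.coprime_two_left.mpr (hoddD hev)).pow_left k
  -- an `s`-element commuting with `ev` lies in `S1`
  have hmemS1 : ∀ {g : G} {j : ℕ}, orderOf g = s ^ j → Commute (ev : G) g → g ∈ S1 := by
    intro g j hg hge
    obtain ⟨hgC, hgD⟩ : ∃ hgC : g ∈ (centralizer ({x} : Set G)), ∀ v ∈ D, Commute (⟨g, hgC⟩ : (centralizer ({x} : Set G))) v := by
      rcases h.vals _ heG with hea | heb
      · -- big centraliser
        set Ce := centralizer ({(ev : G)} : Set G) with hCe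
        have hxCe : x ∈ Ce := mem_cent.mpr hxev.eq
        have hxc : (⟨x, hxCe⟩ : Ce) ∉ center Ce := fun hc => by
          have hle := (mem_center_sub_iff (⟨x, hxCe⟩ : Ce)).mp hc
          have e1 := eq_of_le_of_card_ge hle (show cc x ≤ cc (ev : G) by rw [hxa, hea])
          exact hec ((mem_center_sub_iff ev).mpr e1.ge)
        have hxco : (orderOf (⟨x, hxCe⟩ : Ce)).Coprime r := by
          rw [Subgroup.orderOf_mk, ho]
          exact ((Nat.coprime_primes Nat.prime_two hr.1).mpr hr2.symm).pow_left k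
        rcases h.shape_in heG hCe.symm hr.1 (by rw [Subgroup.orderOf_coe, hoe]) hxco hxc with
          h3 | ⟨q, -, -, h3, h4⟩
        · exact absurd (h3 2 Nat.prime_two hm2).symm hr2
        have hq : q = 2 := ((h3 2 Nat.prime_two hm2).resolve_left hr2.symm).symm
        have hgc := h4 ⟨g, mem_cent.mpr hge.eq.symm⟩ s j hs.1 hsr.ne (hq ▸ hs2)
          (by rw [Subgroup.orderOf_mk, hg])
        have hg2 : ∀ v ∈ Ce, Commute g v := fun v hv =>
          (congrArg Subtype.val (mem_center_iff.mp hgc ⟨v, hv⟩)).symm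
        exact ⟨mem_cent.mpr (hg2 x hxCe).eq, fun v hv => Subtype.ext
          (hg2 (v : G) (mem_cent.mpr (congrArg Subtype.val (hDcomm v hv ev hev)))).eq⟩
      · have hgC : g ∈ (centralizer ({x} : Set G)) := by
          have hle := h.le_of_b heb heG hxev.symm hcoxe.symm
          exact hle (mem_cent.mpr hge.eq.symm)
        refine ⟨hgC, fun v hv => ?_⟩
        exact mem_cent.mp (hsame ev hev hec v hv (mem_cent.mpr (Subtype.ext hge.eq.symm)))
    have hgo : orderOf (⟨g, hgC⟩ : (centralizer ({x} : Set G))) = s ^ j := by rw [Subgroup.orderOf_mk, hg]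
    have hodd : Odd (orderOf (⟨g, hgC⟩ : (centralizer ({x} : Set G)))) := by
      rw [hgo]; exact (hs.1.odd_of_ne_two hs2).pow
    exact ⟨⟨g, hgC⟩, hmemS S hS (odd_of_index_two_pow hd hodd hgD) ⟨j, hgo⟩, rfl⟩
  have hcommD : ∀ {g g' : G}, g ∈ D.map (centralizer ({x} : Set G)).subtype → g' ∈ D.map (centralizer ({x} : Set G)).subtype → Commute g g' := by
    rintro _ _ ⟨u, hu, rfl⟩ ⟨v, hv, rfl⟩
    exact congrArg Subtype.val (hDcomm u hu v hv)
  have hnorm : ∀ g ∈ normalizer (R1 : Set G), ∀ v ∈ S1, g * v * g⁻¹ ∈ S1 := by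
    intro g hg v hv
    obtain ⟨j, hj⟩ := IsPGroup.iff_orderOf.mp (S.2.map (centralizer ({x} : Set G)).subtype) ⟨v, hv⟩
    rw [Subgroup.orderOf_mk] at hj
    refine hmemS1 (j := j) ?_ ?_
    · rw [← hj]; exact orderOf_injective (MulAut.conj g).toMonoidHom (MulAut.conj g).injective v
    · have he1 : (ev : G) ∈ R1 := ⟨ev, heR, rfl⟩
      have h5 : g⁻¹ * (ev : G) * g ∈ R1 := (Subgroup.mem_normalizer_iff''.mp hg _).mp he1
      have h6 : Commute (g⁻¹ * (ev : G) * g) v := hcommD (map_mono hR h5) (map_mono hS hv)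
      show (ev : G) * (g * v * g⁻¹) = g * v * g⁻¹ * ev
      calc (ev : G) * (g * v * g⁻¹) = g * (g⁻¹ * ev * g * v) * g⁻¹ := by group
        _ = g * (v * (g⁻¹ * ev * g)) * g⁻¹ := by rw [h6.eq]
        _ = g * v * g⁻¹ * ev := by group
  haveI := hcyc
  haveI : IsCyclic ((S : Subgroup (centralizer ({x} : Set G))).map (QuotientGroup.mk' (center (centralizer ({x} : Set G))))) :=
    isCyclic_of_injective (inclusion (map_mono hS)) (inclusion_injective _)
  obtain ⟨⟨_, u, hu, rfl⟩, hgen⟩ :=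
    IsCyclic.exists_monoid_generator (α := (S : Subgroup (centralizer ({x} : Set G))).map (QuotientGroup.mk' (center (centralizer ({x} : Set G)))))
  have hcycS : ∀ v ∈ S1, ∃ n : ℕ, ((u : G) ^ n)⁻¹ * v ∈ center G := by
    rintro _ ⟨v, hv, rfl⟩
    obtain ⟨n, hn⟩ := hgen ⟨_, v, hv, rfl⟩
    refine ⟨n, ?_⟩
    have hn' : QuotientGroup.mk' (center (centralizer ({x} : Set G))) (u ^ n) = QuotientGroup.mk' (center (centralizer ({x} : Set G))) v := by
      rw [map_pow]; exact congrArg Subtype.val hn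
    have hz : (u ^ n)⁻¹ * v ∈ center (centralizer ({x} : Set G)) := QuotientGroup.eq.mp hn'
    obtain ⟨j, hj⟩ := IsPGroup.iff_orderOf.mp S.2 ⟨_, mul_mem (inv_mem (pow_mem hu n)) hv⟩
    rw [Subgroup.orderOf_mk] at hj
    exact hi s j _ hs.1 hs2 hj hz
  have huG : (u : G) ∉ center G := fun hz => by
    obtain ⟨v, hv, j, hvj, hvc⟩ := hPXD hs hs2
    obtain ⟨n, hn⟩ := hcycS v ⟨v, hmemS S hS hv ⟨j, hvj⟩, rfl⟩
    refine hvc (mem_center_iff.mpr fun g => Subtype.ext (mem_center_iff.mp ?_ (g : G)))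
    have := mul_mem (pow_mem hz n) hn
    rwa [mul_inv_cancel_left] at this
  have hcardR : Nat.card R1 = r ^ (Nat.card (centralizer ({x} : Set G))).factorization r := by
    rw [← Nat.card_congr ((R : Subgroup (centralizer ({x} : Set G))).equivMapOfInjective _ (subtype_injective _)).toEquiv,
      R.card_eq_multiplicity]
  have hnd : ¬ r * Nat.card R1 ∣ a := by
    rw [hcardR, ← pow_succ', ← hxa]
    exact Nat.pow_succ_factorization_not_dvd Nat.card_pos.ne' hr.1
  have hfull : Nat.card R1 < r ^ (Nat.card G).factorization r := by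
    rw [hcardR]
    by_contra hge
    rw [not_lt] at hge
    have hd1 : r ^ (Nat.card G).factorization r ∣ a :=
      (pow_dvd_pow r ((Nat.pow_le_pow_iff_right hr.1.one_lt).mp hge)).trans
        ((Nat.ordProj_dvd (Nat.card (centralizer ({x} : Set G))) r).trans hxa.dvd)
    have hd2 : r ^ (Nat.card G).factorization r ∣ b := by
      refine Nat.Coprime.dvd_of_dvd_mul_left ?_ (show _ ∣ 2 ^ e * b by rwa [← he, ← h.div_mul hba])
      exact Nat.Coprime.pow _ _ ((Nat.coprime_primes hr.1 Nat.prime_two).mpr hr2)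
    obtain ⟨P⟩ : Nonempty (Sylow r G) := inferInstance
    obtain ⟨y, hy, hyd⟩ := h.exists_deficient P (hr.sylow_not_central P)
    rcases h.vals y hy with e1 | e1
    · exact hyd (e1 ▸ hd1)
    · exact hyd (e1 ▸ hd2)
  refine largest_prime hsr (R.2.map (centralizer ({x} : Set G)).subtype) hfull (S.2.map (centralizer ({x} : Set G)).subtype) hnorm ⟨u, hu, rfl⟩ hcycS
    (fun v hv => hcommD (map_mono hR hv) ⟨u, hS hu, rfl⟩) fun hdu => hnd (hdu.trans (h.dvd_a hba huG))

/-- All noncentral elements of 2-power order have centralisers with a normal 2-complement. -/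
theorem good {x : G} (hx : x ∉ center G) {k : ℕ} (ho : orderOf x = 2 ^ k) :
    HasNormalPComplement 2 (centralizer ({x} : Set G)) := by
  by_cases hall : ∀ w : centralizer ({x} : Set G), Odd (orderOf w) → w ∈ center (centralizer ({x} : Set G))
  · exact normalComplement_of_commute fun w hw v _ _ => (mem_center_iff.mp (hall w hw) v)
  push Not at hall
  obtain ⟨w, hw, hwc⟩ := hall
  obtain ⟨i, r0, l, hr0, hl, hwi⟩ := exists_primary_noncentral _ w le_rfl hwc
  have hodd : Odd (orderOf (w ^ i)) := hw.of_dvd_nat (orderOf_pow_dvd i)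
  have hr02 : r0 ≠ 2 := fun e => by
    have hl0 : l = 0 := by
      by_contra hne
      exact (Nat.not_even_iff_odd.mpr hodd) (hl ▸ e ▸ (Nat.even_pow.mpr ⟨even_two, hne⟩))
    rw [hl0, pow_zero, orderOf_eq_one_iff] at hl
    exact hwi (hl ▸ one_mem _)
  obtain ⟨hxa, -, hba⟩ := h.cc_regular hx (w ^ i) (by
    rw [ho, Subgroup.orderOf_coe]
    exact (Nat.coprime_two_left.mpr hodd).pow_left k) hwi
  by_cases hm : ∀ u : ℕ, u.Prime → u ∣ a / b → u = 2
  · exact h.good_two_pow hx ho hxa hba hm hr0 hr02 hl hwi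
  · push Not at hm
    obtain ⟨q0, hq0, hq0d, hq02⟩ := hm
    exact h.good_odd hx ho hxa hba hq0 hq02 hq0d hr0 hr02 hl hwi

end Two

end CfsgLib.ClassThree
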