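import Cfsg.Agent.Lib.ClassThree.Basic
import Cfsg.Agent.Lib.CoprimeGen

/-!
Two general lemmas: commuting operators with one fixed subgroup form a cyclic group; a large prime cannot act on a
cyclic section of smaller prime order without centralising it.
-/

set_option autoImplicit false
set_option linter.unusedSectionVars false
set_option linter.style.haveILetI false

namespace CfsgLib.ClassThree

open Subgroup CfsgLib.ConjRankThree

universe u

variable {G : Type u} [Group G] [Finite G]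

/-- An abelian group acting faithfully with coprime order in which all non-trivial elements have the same fixed
points is cyclic. -/
theorem cyclic_of_same_fixed {A K : Subgroup G} [IsMulCommutative A] (hAK : A ≤ normalizer (K : Set G))
    (hcop : (Nat.card A).Coprime (Nat.card K)) (hfaith : ∀ x ∈ A, (∀ k ∈ K, k * x = x * k) → x = 1)
    (hsame : ∀ x ∈ A, x ≠ 1 → ∀ y ∈ A, ∀ k ∈ K, k * x = x * k → k * y = y * k) : IsCyclic A := by
  by_contra hc
  have hgen := CfsgLib.coprime_generated_by_centralizers hc hAK hcop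
  obtain ⟨y, hy, hy1⟩ : ∃ y ∈ A, y ≠ 1 := by
    by_contra hall
    push Not at hall
    haveI : Subsingleton A := ⟨fun u v => Subtype.ext ((hall u u.2).trans (hall v v.2).symm)⟩
    exact hc isCyclic_of_subsingleton
  refine hy1 (hfaith y hy fun k hk => ?_)
  have hle : K ≤ centralizer ({y} : Set G) := by
    rw [← hgen]
    exact iSup₂_le fun x hx k hk => mem_cent.mpr (hsame x hx.1 hx.2 y hy k hk.1 (mem_cent.mp hk.2))
  exact mem_cent.mp (hle hk)

/-- A prime `r` above `s`: an `r`-subgroup properly below a Sylow subgroup has normaliser centralising a cyclic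
section of `s`-power order, so some centraliser is too large. -/
theorem largest_prime {r s : ℕ} [Fact r.Prime] [Fact s.Prime] (hsr : s < r) {R1 S1 : Subgroup G} {u : G}
    (hR1 : IsPGroup r R1) (hfull : Nat.card R1 < r ^ (Nat.card G).factorization r) (hS1 : IsPGroup s S1)
    (hnorm : ∀ g ∈ normalizer (R1 : Set G), ∀ v ∈ S1, g * v * g⁻¹ ∈ S1) (hu : u ∈ S1)
    (hcyc : ∀ v ∈ S1, ∃ k : ℕ, (u ^ k)⁻¹ * v ∈ center G) (hR1u : ∀ v ∈ R1, Commute v u)
    (hcc : ¬ r * Nat.card R1 ∣ cc u) : False := by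
  classical
  have hr : r.Prime := Fact.out
  have hs : s.Prime := Fact.out
  obtain ⟨R, hR⟩ := hR1.exists_le_sylow
  have hlt : R1.subgroupOf (R : Subgroup G) < ⊤ := lt_top_iff_ne_top.mpr fun e => by
    have h1 := card_le_of_le (subgroupOf_eq_top.mp e)
    rw [R.card_eq_multiplicity] at h1
    omega
  haveI := R.2.isNilpotent
  obtain ⟨⟨g, hgR⟩, hgN, hg1⟩ := SetLike.exists_of_lt (Group.normalizerCondition_of_isNilpotent _ hlt)
  have hgN' : g ∈ normalizer (R1 : Set G) := by
    rw [Subgroup.mem_normalizer_iff_map_conj_eq]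
    refine eq_of_le_of_card_ge ?_ (le_of_eq (Nat.card_congr ((R1.equivMapOfInjective _
      (MulAut.conj g).injective).toEquiv)))
    rintro _ ⟨v, hv, rfl⟩
    have h1 := (mem_normalizer_iff.mp hgN ⟨v, hR hv⟩).mp hv
    rwa [mem_subgroupOf] at h1
  obtain ⟨i, hi⟩ := R.2 ⟨g, hgR⟩
  have hgi : g ^ r ^ i = 1 := congrArg Subtype.val hi
  set π := QuotientGroup.mk' (center G) with hπ
  obtain ⟨l, hl⟩ := hS1 ⟨u, hu⟩
  obtain ⟨j, -, hj⟩ := (Nat.dvd_prime_pow hs).mp (orderOf_dvd_of_pow_eq_one
    (show π u ^ s ^ l = 1 by rw [← map_pow, show u ^ s ^ l = 1 from congrArg Subtype.val hl, map_one]))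
  obtain ⟨k, hk⟩ := hcyc _ (hnorm g hgN' u hu)
  have hgu : π g * π u * (π g)⁻¹ = π u ^ k := by
    rw [← map_inv, ← map_mul, ← map_mul, ← map_pow]
    exact (QuotientGroup.eq.mpr hk).symm
  have hiter : ∀ n : ℕ, π g ^ n * π u * (π g ^ n)⁻¹ = π u ^ k ^ n := fun n => by
    induction n with
    | zero => simp
    | succ n ih =>
      calc π g ^ (n + 1) * π u * (π g ^ (n + 1))⁻¹ = π g * (π g ^ n * π u * (π g ^ n)⁻¹) * (π g)⁻¹ := by
            rw [pow_succ']; group
        _ = π u ^ k ^ (n + 1) := by rw [ih, ← conj_pow, hgu, ← pow_mul, pow_succ']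
  have hfix : π g * π u * (π g)⁻¹ = π u := by
    rcases Nat.eq_zero_or_pos j with rfl | hj0
    · rw [pow_zero, orderOf_eq_one_iff] at hj
      simp [hj]
    have h1 := hiter (r ^ i)
    rw [← map_pow, hgi, map_one, one_mul, inv_one, mul_one] at h1
    nth_rewrite 1 [← pow_one (π u)] at h1
    rw [pow_eq_pow_iff_modEq, hj] at h1
    rw [hgu]
    nth_rewrite 2 [← pow_one (π u)]
    rw [pow_eq_pow_iff_modEq, hj]
    have hcast : ((k : ZMod (s ^ j)) ^ r ^ i) = 1 := by
      rw [← Nat.cast_pow, ← Nat.cast_one, ZMod.natCast_eq_natCast_iff]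
      exact h1.symm
    haveI : NeZero (s ^ j) := ⟨(pow_pos hs.pos j).ne'⟩
    obtain ⟨w, hw⟩ : IsUnit (k : ZMod (s ^ j)) := IsUnit.of_pow_eq_one hcast (pow_pos hr.pos i).ne'
    have hw1 : w ^ r ^ i = 1 := Units.ext (by rw [Units.val_pow_eq_pow_val, hw, hcast, Units.val_one])
    have hw2 : w ^ Nat.totient (s ^ j) = 1 := ZMod.pow_totient w
    have hcop : (r ^ i).Coprime (Nat.totient (s ^ j)) := by
      refine Nat.Coprime.pow_left i ?_
      rw [Nat.totient_prime_pow hs hj0]
      refine Nat.Coprime.mul_right (((Nat.coprime_primes hr hs).mpr (by omega)).pow_right _) ?_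
      refine hr.coprime_iff_not_dvd.mpr fun hd => ?_
      have := Nat.le_of_dvd (by have := hs.two_le; omega) hd
      omega
    have hw3 : w = 1 := by
      have := pow_gcd_eq_one.mpr ⟨hw1, hw2⟩
      rwa [hcop.gcd_eq_one, pow_one] at this
    rw [← ZMod.natCast_eq_natCast_iff, Nat.cast_one, ← hw, hw3, Units.val_one]
  -- the element centralises the section
  set z := u⁻¹ * (g * u * g⁻¹) with hz
  have hzc : z ∈ center G := by
    refine QuotientGroup.eq.mp ?_
    show π u = π (g * u * g⁻¹)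
    rw [map_mul, map_mul, map_inv, hfix]
  have hzS : z ∈ S1 := mul_mem (inv_mem hu) (hnorm g hgN' u hu)
  have hconj : ∀ n : ℕ, g ^ n * u * (g ^ n)⁻¹ = u * z ^ n := fun n => by
    induction n with
    | zero => simp
    | succ n ih =>
      calc g ^ (n + 1) * u * (g ^ (n + 1))⁻¹ = g * (g ^ n * u * (g ^ n)⁻¹) * g⁻¹ := by rw [pow_succ']; group
        _ = (g * u * g⁻¹) * (g * z ^ n * g⁻¹) := by rw [ih]; group
        _ = u * z * z ^ n := by
          rw [show g * u * g⁻¹ = u * z by rw [hz]; group, mem_center_iff.mp (pow_mem hzc n) g,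
            mul_inv_cancel_right]
        _ = u * z ^ (n + 1) := by rw [pow_succ', mul_assoc]
  have hz1 : z = 1 := by
    have e := hconj (r ^ i)
    rw [hgi, one_mul, inv_one, mul_one] at e
    have e1 : z ^ r ^ i = 1 := mul_eq_left.mp e.symm
    obtain ⟨m, hm⟩ := hS1 ⟨z, hzS⟩
    have e2 : z ^ s ^ m = 1 := congrArg Subtype.val hm
    have := pow_gcd_eq_one.mpr ⟨e1, e2⟩
    rwa [Nat.Coprime.gcd_eq_one (Nat.Coprime.pow i m ((Nat.coprime_primes hr hs).mpr (by omega))), pow_one] at this
  have hgc : g ∈ centralizer ({u} : Set G) := mem_cent.mpr (mul_inv_eq_iff_eq_mul.mp (by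
    rw [show g * u * g⁻¹ = u * z by rw [hz]; group, hz1, mul_one]))
  set H := R1 ⊔ zpowers g with hH
  have hHR : H ≤ (R : Subgroup G) := sup_le hR (zpowers_le.mpr hgR)
  obtain ⟨m1, hm1⟩ := hR1.exists_card_eq
  obtain ⟨m2, hm2⟩ := (R.2.to_le hHR).exists_card_eq
  have hlt2 : m1 < m2 := by
    by_contra hge
    refine hg1 (mem_subgroupOf.mpr ?_)
    have e : R1 = H := eq_of_le_of_card_ge le_sup_left
      (by rw [hm1, hm2]; exact Nat.pow_le_pow_right hr.pos (by omega))
    exact e ▸ mem_sup_right (mem_zpowers g)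
  refine hcc (dvd_trans ?_ (card_dvd_of_le (sup_le (fun v hv => mem_cent.mpr (hR1u v hv).eq)
    (zpowers_le.mpr hgc) : H ≤ centralizer ({u} : Set G))))
  rw [hm1, hm2, ← pow_succ']
  exact pow_dvd_pow r (by omega)

end CfsgLib.ClassThree
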