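import Cfsg.Agent.Lib.ClassThree.Shapes
import Cfsg.Agent.Lib.ClassThree.Largest
import Cfsg.Agent.Lib.PSolvable
import Cfsg.Agent.Lib.ConjRankFour.Bad

/-!
A solvable group with an abelian Hall 2'-subgroup all of whose noncentral elements have the same centraliser: it has
a normal 2-complement, or the Hall subgroup is cyclic modulo the centre.
-/

set_option autoImplicit false
set_option linter.unusedSectionVars false
set_option linter.style.haveILetI false

namespace CfsgLib.ClassThree

open Subgroup Cfsg CfsgLib.ConjRankThree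

universe u

variable {C : Type u} [Group C] [Finite C]

theorem odd_of_index_two_pow {D : Subgroup C} {k : ℕ} (hk : D.index = 2 ^ k)
    {v : C} (hv : Odd (orderOf v)) (hc : ∀ d ∈ D, Commute v d) : v ∈ D := by
  haveI hn : (D.subgroupOf (D ⊔ zpowers v)).Normal := by
    rw [normal_subgroupOf_iff_le_normalizer le_sup_left]
    refine sup_le le_normalizer (zpowers_le.mpr (centralizer_le_normalizer (D : Set C) fun d hd => ?_))
    exact (hc d hd).eq.symm
  have h1 : D.relIndex (D ⊔ zpowers v) ∣ 2 ^ k := hk ▸ relIndex_dvd_index_of_le le_sup_left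
  set q := QuotientGroup.mk' (D.subgroupOf (D ⊔ zpowers v))
  have h2 : orderOf (q ⟨v, mem_sup_right (mem_zpowers v)⟩) ∣ D.relIndex (D ⊔ zpowers v) := by
    rw [relIndex, index_eq_card]; exact orderOf_dvd_natCard _
  have h3 : orderOf (q ⟨v, mem_sup_right (mem_zpowers v)⟩) ∣ orderOf v := by
    rw [← Subgroup.orderOf_mk v (mem_sup_right (mem_zpowers v) : v ∈ D ⊔ zpowers v)]
    exact orderOf_map_dvd _ _
  have h4 := Nat.eq_one_of_dvd_coprimes ((Nat.coprime_two_left.mpr hv).pow_left k) (h2.trans h1) h3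
  exact mem_subgroupOf.mp ((QuotientGroup.eq_one_iff _).mp (orderOf_eq_one_iff.mp h4))

theorem hall_cyclic [Group.IsSolvable C] {D : Subgroup C} (hDc : ∀ u ∈ D, ∀ v ∈ D, u * v = v * u)
    (hDodd : Odd (Nat.card D)) {k : ℕ} (hk : D.index = 2 ^ k)
    (hsame : ∀ u ∈ D, u ∉ center C → ∀ v ∈ D,
      centralizer ({u} : Set C) ≤ centralizer ({v} : Set C)) :
    HasNormalPComplement 2 C ∨ IsCyclic (D.map (QuotientGroup.mk' (center C))) := by
  classical
  haveI := Fact.mk Nat.prime_two
  set O := pPrimeCore 2 C with hO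
  have hOD : O ≤ D := by
    have hcard := CfsgLib.card_sup_dvd_mul D O
    have hco : (Nat.card (D ⊔ O : Subgroup C)).Coprime 2 :=
      Nat.Coprime.coprime_dvd_left hcard (Nat.Coprime.mul_left (Nat.coprime_two_right.mpr hDodd)
        (CfsgLib.card_pPrimeCore_coprime 2))
    have h1 : D.relIndex (D ⊔ O) ∣ 2 ^ k := hk ▸ relIndex_dvd_index_of_le le_sup_left
    have h3 : D.relIndex (D ⊔ O) ∣ Nat.card (D ⊔ O : Subgroup C) := index_dvd_card _
    exact le_sup_right.trans (relIndex_eq_one.mp (Nat.eq_one_of_dvd_coprimes (hco.pow_right k) h3 h1))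
  by_cases hOc : O ≤ center C
  swap
  · left
    obtain ⟨y, hy, hyc⟩ := SetLike.not_le_iff_exists.mp hOc
    haveI hTn : (centralizer (O : Set C)).Normal := by rw [hO]; infer_instance
    set T := centralizer (O : Set C)
    have hT : ∀ g ∈ T, ∀ d ∈ D, Commute g d := fun g hg d hd =>
      mem_cent.mp (hsame y (hOD hy) hyc d hd (mem_cent.mpr (hg y hy).symm))
    have hDT : D ≤ T := fun d hd v hv => hDc v (hOD hv) d hd
    haveI : D.Normal := ⟨fun d hd g => by
      refine odd_of_index_two_pow hk ?_ (hT _ (hTn.conj_mem d (hDT hd) g))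
      rw [show orderOf (g * d * g⁻¹) = orderOf d from
        orderOf_injective (MulAut.conj g).toMonoidHom (MulAut.conj g).injective d]
      exact hDodd.of_dvd_nat (Subgroup.orderOf_dvd_natCard D hd)⟩
    refine ConjRankFour.hasNormalPComplement_of_index (N := D) (Nat.coprime_two_right.mpr hDodd) fun q hq hd => ?_
    rw [hk] at hd
    exact (Nat.prime_dvd_prime_iff_eq hq Nat.prime_two).mp (hq.dvd_of_dvd_pow hd)
  right
  set π := QuotientGroup.mk' (center C) with hπ
  set Q := pCore 2 C with hQ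
  haveI hQn : Q.Normal := by rw [hQ]; infer_instance
  have hFle : fittingSubgroup C ≤ (Q.map π).comap π := by
    rw [CfsgLib.fittingSubgroup_eq_iSup_pCore]
    refine iSup_le fun q => ?_
    rcases eq_or_ne (2 : ℕ) (q : ℕ) with e | e
    · rw [← e]; exact le_comap_map π Q
    · intro v hv
      have hv' : π v = 1 := (QuotientGroup.eq_one_iff v).mpr
        (hOc (CfsgLib.pCore_le_pPrimeCore_of_ne Nat.prime_two q.2 e hv))
      show π v ∈ Q.map π
      rw [hv']; exact one_mem _
  -- an element of the Hall subgroup fixing the core modulo the centre is central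
  have hexact : ∀ w ∈ D, ∀ v ∈ Q, π v * π w = π w * π v → Commute v w := by
    intro w hw v hv he
    set z := v⁻¹ * (w * v * w⁻¹) with hz
    have hzc : z ∈ center C := by
      refine QuotientGroup.eq.mp ?_
      show π v = π (w * v * w⁻¹)
      rw [map_mul, map_mul, map_inv, ← he, mul_inv_cancel_right]
    have hzQ : z ∈ Q := mul_mem (inv_mem hv) (hQn.conj_mem v hv w)
    have hit : ∀ n : ℕ, w ^ n * v * (w ^ n)⁻¹ = v * z ^ n := fun n => by
      induction n with
      | zero => simp
      | succ n ih =>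
        calc w ^ (n + 1) * v * (w ^ (n + 1))⁻¹ = w * (w ^ n * v * (w ^ n)⁻¹) * w⁻¹ := by rw [pow_succ']; group
          _ = (w * v * w⁻¹) * (w * z ^ n * w⁻¹) := by rw [ih]; group
          _ = v * z * z ^ n := by
            rw [show w * v * w⁻¹ = v * z by rw [hz]; group, mem_center_iff.mp (pow_mem hzc n) w,
              mul_inv_cancel_right]
          _ = v * z ^ (n + 1) := by rw [pow_succ', mul_assoc]
    have e1 := hit (orderOf w)
    rw [pow_orderOf_eq_one, one_mul, inv_one, mul_one] at e1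
    have e2 : z ^ orderOf w = 1 := mul_eq_left.mp e1.symm
    obtain ⟨j, hj⟩ := CfsgLib.isPGroup_pCore (G := C) 2 ⟨z, hzQ⟩
    have e3 : z ^ 2 ^ j = 1 := congrArg Subtype.val hj
    have h4 := pow_gcd_eq_one.mpr ⟨e3, e2⟩
    rw [Nat.Coprime.gcd_eq_one ((Nat.coprime_two_left.mpr (hDodd.of_dvd_nat
      (Subgroup.orderOf_dvd_natCard D hw))).pow_left j), pow_one] at h4
    have e : w * v * w⁻¹ = v := by
      rw [show w * v * w⁻¹ = v * z by rw [hz]; group, h4, mul_one]
    exact (mul_inv_eq_iff_eq_mul.mp e).symm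
  have hfaith : ∀ w ∈ D, (∀ v ∈ Q, Commute v w) → w ∈ center C := by
    intro w hw hv
    have hwF : w ∈ centralizer (fittingSubgroup C : Set C) := fun f hf => by
      obtain ⟨v, hvQ, hvf⟩ := hFle hf
      have hz : v⁻¹ * f ∈ center C := QuotientGroup.eq.mp hvf
      calc f * w = v * (v⁻¹ * f * w) := by group
        _ = v * (w * (v⁻¹ * f)) := by rw [mem_center_iff.mp hz w]
        _ = w * v * (v⁻¹ * f) := by rw [← mul_assoc, (hv v hvQ).eq]
        _ = w * f := by group
    obtain ⟨v, hvQ, hvf⟩ := hFle (CfsgLib.centralizer_fitting_le hwF)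
    obtain ⟨j, hj⟩ := CfsgLib.isPGroup_pCore (G := C) 2 ⟨v, hvQ⟩
    have e1 : π w ^ 2 ^ j = 1 := by
      rw [show π w = π v from hvf.symm, ← map_pow, show v ^ 2 ^ j = 1 from congrArg Subtype.val hj, map_one]
    have e2 : π w ^ orderOf w = 1 := by rw [← map_pow, pow_orderOf_eq_one, map_one]
    have h4 := pow_gcd_eq_one.mpr ⟨e1, e2⟩
    rw [Nat.Coprime.gcd_eq_one ((Nat.coprime_two_left.mpr (hDodd.of_dvd_nat
      (Subgroup.orderOf_dvd_natCard D hw))).pow_left j), pow_one] at h4
    exact (QuotientGroup.eq_one_iff w).mp h4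
  haveI : IsMulCommutative (D.map π) := ⟨⟨by
    rintro ⟨_, u, hu, rfl⟩ ⟨_, v, hv, rfl⟩
    exact Subtype.ext (by show π u * π v = π v * π u; rw [← map_mul, ← map_mul, hDc u hu v hv])⟩⟩
  haveI : (Q.map π).Normal := hQn.map π (QuotientGroup.mk'_surjective _)
  refine cyclic_of_same_fixed (K := Q.map π) (fun g _ => by rw [normalizer_eq_top]; trivial) ?_ ?_ ?_
  · obtain ⟨j, hj⟩ := ((CfsgLib.isPGroup_pCore (G := C) 2).map π : IsPGroup 2 (Q.map π)).exists_card_eq
    rw [hj]
    exact (Nat.coprime_two_right.mpr (hDodd.of_dvd_nat (Subgroup.card_map_dvd D π))).pow_right j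
  · rintro _ ⟨w, hw, rfl⟩ hfix
    exact (QuotientGroup.eq_one_iff w).mpr (hfaith w hw fun v hv => hexact w hw v hv (hfix _ ⟨v, hv, rfl⟩))
  · rintro _ ⟨w, hw, rfl⟩ hw1 _ ⟨w', hw', rfl⟩ _ ⟨v, hv, rfl⟩ he
    have hwc : w ∉ center C := fun hc => hw1 ((QuotientGroup.eq_one_iff w).mpr hc)
    have := mem_cent.mp (hsame w hw hwc w' hw' (mem_cent.mpr (hexact w hw v hv he).eq))
    rw [← map_mul, ← map_mul, this]

end CfsgLib.ClassThree
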