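import Cfsg.Agent.Lib.ClassThree.Frame
import Cfsg.Agent.Lib.Coprime
import Cfsg.Agent.Lib.SylowExtra

/-!
Lifting elements which commute modulo a normal subgroup with an element of prime power order: with coprime order
they normalise a Sylow subgroup and fix a lift of the given element.  The centraliser of an involution in every
quotient of a group with two sizes of centralisers over a subgroup containing the centre has a normal 2-complement.
-/

set_option autoImplicit false
set_option linter.unusedSectionVars false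
set_option linter.style.haveILetI false

namespace CfsgLib.ClassThree

open Subgroup Cfsg CfsgLib.ConjRankThree
open scoped commutatorElement

universe u v

variable {G : Type u} [Group G] [Finite G]

/-- An element of prime power order is the image of one. -/
theorem exists_primary_lift {X : Type v} [Group X] (π : G →* X) {g : G} {p k : ℕ} [Fact p.Prime]
    (hk : orderOf (π g) = p ^ k) : ∃ n j : ℕ, orderOf (g ^ n) = p ^ j ∧ π (g ^ n) = π g := by
  obtain ⟨l, m, hm, hlm⟩ := Nat.exists_eq_pow_mul_and_not_dvd (orderOf_pos g).ne' p (Fact.out : p.Prime).ne_one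
  have hco : m.Coprime (p ^ k) := ((Fact.out : p.Prime).coprime_iff_not_dvd.mpr hm).symm.pow_right k
  have hco' : m.Coprime (p ^ l) := ((Fact.out : p.Prime).coprime_iff_not_dvd.mpr hm).symm.pow_right l
  obtain ⟨c, -, hc⟩ := Nat.exists_mul_mod_eq_one_of_coprime
    (show m.Coprime (p ^ (k + l + 1)) from ((Fact.out : p.Prime).coprime_iff_not_dvd.mpr hm).symm.pow_right _)
    (Nat.one_lt_pow (by omega) (Fact.out : p.Prime).one_lt)
  refine ⟨m * c, ?_⟩
  have h1 : π (g ^ (m * c)) = π g := by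
    rw [map_pow, ← pow_mod_orderOf, hk, ← Nat.mod_mod_of_dvd _ (pow_dvd_pow p (show k ≤ k + l + 1 by omega)), hc]
    rcases Nat.eq_zero_or_pos k with rfl | hk0
    · rw [pow_zero] at hk
      rw [orderOf_eq_one_iff.mp hk, one_pow]
    · rw [Nat.mod_eq_of_lt (Nat.one_lt_pow hk0.ne' (Fact.out : p.Prime).one_lt), pow_one]
  obtain ⟨j, -, hj⟩ := (Nat.dvd_prime_pow (Fact.out : p.Prime)).mp (orderOf_dvd_of_pow_eq_one
    (show (g ^ (m * c)) ^ p ^ l = 1 by
      rw [← pow_mul, show m * c * p ^ l = p ^ l * m * c by ring, ← hlm, pow_mul, pow_orderOf_eq_one, one_pow]))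
  exact ⟨j, hj, h1⟩

/-- A lift of coprime order normalising a Sylow subgroup and fixing a lift. -/
theorem exists_fixing_lift {R0 : Subgroup G} [R0.Normal] {s i : ℕ} [Fact s.Prime] {w : G} (hw : w ∉ R0)
    (hwo : orderOf w = s ^ i) {g0 : G} (hg0 : (orderOf (g0 : G ⧸ R0)).Coprime s)
    (hc : Commute (w : G ⧸ R0) g0) :
    ∃ (g : G) (W : Subgroup G) (w' : G), (g : G ⧸ R0) = g0 ∧ (orderOf g).Coprime s ∧ IsPGroup s W ∧ w ∈ W ∧
      g ∈ normalizer (W : Set G) ∧ w' ∈ W ∧ w' ∉ R0 ∧ Commute w' g ∧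
      ∃ S : Sylow s R0, ∀ x ∈ (S : Subgroup R0), (x : G) ∈ W := by
  set π := QuotientGroup.mk' R0 with hπ
  set E := (zpowers (π w)).comap π with hE
  set N := (centralizer ({π w} : Set (G ⧸ R0))).comap π with hN
  have hwE : w ∈ E := mem_zpowers (π w)
  have hRE : R0 ≤ E := fun x hx => by
    show π x ∈ zpowers (π w)
    rw [show π x = 1 from (QuotientGroup.eq_one_iff x).mpr hx]
    exact one_mem _
  have hEN : E ≤ N := fun x hx => by
    obtain ⟨n, hn⟩ := mem_zpowers_iff.mp (show π x ∈ zpowers (π w) from hx)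
    refine mem_cent.mpr ?_
    rw [← hn]
    exact ((Commute.refl (π w)).zpow_left n).eq
  haveI : (E.subgroupOf N).Normal := ⟨fun x hx m => by
    rw [mem_subgroupOf] at hx ⊢
    obtain ⟨n, hn⟩ := mem_zpowers_iff.mp (show π (x : G) ∈ zpowers (π w) from hx)
    show π ((m : G) * x * (m : G)⁻¹) ∈ zpowers (π w)
    rw [map_mul, map_mul, map_inv, ← hn, ← conj_zpow,
      show π (m : G) * π w * (π (m : G))⁻¹ = π w from mul_inv_eq_iff_eq_mul.mpr (mem_cent.mp m.2)]
    exact zpow_mem (mem_zpowers _) n⟩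
  obtain ⟨WN, hWN⟩ := exists_sylow_of_mem (G := E.subgroupOf N) (r := s)
    (x := ⟨⟨w, hEN hwE⟩, hwE⟩) ⟨i, by rw [← Subgroup.orderOf_coe, ← Subgroup.orderOf_coe]; exact hwo⟩
  set WN' := (WN : Subgroup (E.subgroupOf N)).map (E.subgroupOf N).subtype
  have hg0N : g0 ∈ N := mem_cent.mpr hc.eq.symm
  have htop : normalizer (WN' : Set N) ⊔ E.subgroupOf N = ⊤ := WN.normalizer_sup_eq_top
  obtain ⟨m, hm, e, he, hme⟩ := Subgroup.mem_sup_of_normal_right.mp
    (htop ▸ mem_top (⟨g0, hg0N⟩ : N))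
  set W := WN'.map N.subtype with hW
  have hwW : w ∈ W := ⟨⟨w, hEN hwE⟩, ⟨⟨⟨w, hEN hwE⟩, hwE⟩, hWN, rfl⟩, rfl⟩
  have hWp : IsPGroup s W := (WN.2.map _).map _
  have hWE : W ≤ E := by
    rintro _ ⟨_, ⟨x, -, rfl⟩, rfl⟩
    exact x.2
  -- a lift normalising `W`
  obtain ⟨n0, hn0⟩ := mem_zpowers_iff.mp (show π ((e : N) : G) ∈ zpowers (π w) from he)
  set g1 := (m : G) * w ^ n0
  have hg1π : π g1 = π g0 := by
    rw [map_mul, map_zpow, hn0, ← map_mul]
    exact congrArg (fun x : N => π (x : G)) hme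
  have hg1N : g1 ∈ normalizer (W : Set G) := by
    refine mul_mem ?_ (zpow_mem (le_normalizer hwW) _)
    rw [Subgroup.mem_normalizer_iff]
    intro x
    constructor
    · rintro ⟨y, hy, rfl⟩
      exact ⟨m * y * m⁻¹, (Subgroup.mem_normalizer_iff.mp hm y).mp hy, rfl⟩
    · rintro ⟨y, hy, e'⟩
      refine ⟨m⁻¹ * y * m, (Subgroup.mem_normalizer_iff''.mp hm y).mp hy, ?_⟩
      have e'' : (y : G) = (m : G) * x * (m : G)⁻¹ := e'
      show (m : G)⁻¹ * y * m = x
      rw [e'']; group
  -- its part of coprime order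
  obtain ⟨l, mm, hmm, hlm⟩ := Nat.exists_eq_pow_mul_and_not_dvd (orderOf_pos g1).ne' s (Fact.out : s.Prime).ne_one
  have hco : (s ^ l).Coprime (orderOf (g0 : G ⧸ R0)) := hg0.symm.pow_left l
  obtain ⟨c, hcc⟩ : ∃ c, (g0 : G ⧸ R0) ^ (s ^ l * c) = (g0 : G ⧸ R0) := by
    obtain ⟨c, hc'⟩ := exists_pow_eq_self_of_coprime hco
    exact ⟨c, by rw [pow_mul]; exact hc'⟩
  set g := g1 ^ (s ^ l * c) with hg
  have hgπ : (g : G ⧸ R0) = g0 := by
    show π g = π g0
    rw [hg, map_pow, hg1π]
    exact hcc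
  have hgo : (orderOf g).Coprime s := by
    have hd : orderOf g ∣ mm := orderOf_dvd_of_pow_eq_one (by
      rw [hg, ← pow_mul, show s ^ l * c * mm = s ^ l * mm * c by ring, ← hlm, pow_mul, pow_orderOf_eq_one,
        one_pow])
    exact Nat.Coprime.coprime_dvd_left hd ((Fact.out : s.Prime).coprime_iff_not_dvd.mpr hmm).symm
  have hgN : g ∈ normalizer (W : Set G) := pow_mem hg1N _
  have hcop : (Nat.card (zpowers g)).Coprime (Nat.card W) := by
    obtain ⟨k, hk⟩ := hWp.exists_card_eq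
    rw [Nat.card_zpowers, hk]
    exact hgo.pow_right k
  -- a fixed element over `w`
  have hfix : ∀ x ∈ zpowers g, x * w * x⁻¹ * w⁻¹ ∈ W ⊓ R0 := fun x hx => by
    refine ⟨W.mul_mem ((Subgroup.mem_normalizer_iff.mp (zpowers_le.mpr hgN hx) w).mp hwW) (inv_mem hwW), ?_⟩
    obtain ⟨n, rfl⟩ := mem_zpowers_iff.mp hx
    refine (QuotientGroup.eq_one_iff _).mp ?_
    show π (g ^ n * w * (g ^ n)⁻¹ * w⁻¹) = 1
    rw [map_mul, map_mul, map_mul, map_inv, map_inv, map_zpow, show π g = π g0 from hgπ,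
      ((show Commute (π g0) (π w) from hc.symm).zpow_left n).eq, mul_inv_cancel_right, mul_inv_cancel]
  obtain ⟨w', hw', hww'⟩ := CfsgLib.coprime_fixed_quotient (A := zpowers g) (K := W) (N := W ⊓ R0)
    (zpowers_le.mpr hgN) hcop (Or.inl (Group.isSolvable_of_comm fun x y => mul_comm' x y)) inf_le_left
    (fun x hx => by
      rw [Subgroup.mem_normalizer_iff]
      intro y
      simp only [mem_inf]
      exact ⟨fun hy => ⟨mul_mem (mul_mem hx hy.1) (inv_mem hx),
        (inferInstance : R0.Normal).conj_mem y hy.2 x⟩, fun hy => ⟨by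
          have := mul_mem (mul_mem (inv_mem hx) hy.1) hx
          simpa [mul_assoc] using this, by
          have := (inferInstance : R0.Normal).conj_mem' _ hy.2 x
          simpa [mul_assoc] using this⟩⟩)
    (zpowers_le.mpr (by
      rw [Subgroup.mem_normalizer_iff]
      intro y
      simp only [mem_inf]
      exact and_congr (Subgroup.mem_normalizer_iff.mp hgN y)
        ((Subgroup.mem_normalizer_iff.mp (by rw [normalizer_eq_top]; trivial : g ∈ normalizer (R0 : Set G))) y)))
    hwW hfix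
  have hw'R : w' ∉ R0 := fun h' => hw (by
    have := mul_mem h' (inv_mem hww'.2)
    rwa [mul_inv_rev, inv_inv, mul_inv_cancel_left] at this)
  have hgw' : Commute w' g := (hw'.2 g (mem_zpowers g)).symm
  refine ⟨g, W, w', hgπ, hgo, hWp, hwW, hgN, hw'.1, hw'R, hgw', ?_⟩
  set R0' := (R0.subgroupOf N).subgroupOf (E.subgroupOf N)
  set S := CfsgLib.sylowInfNormal WN R0'
  let φ : R0' →* R0 :=
    { toFun := fun x => ⟨(((x : E.subgroupOf N) : N) : G), x.2⟩
      map_one' := rfl
      map_mul' := fun x y => rfl }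
  have hφ : Function.Surjective φ := fun x =>
    ⟨⟨⟨⟨(x : G), hEN (hRE x.2)⟩, hRE x.2⟩, x.2⟩, rfl⟩
  refine ⟨S.mapSurjective hφ, fun x hx => ?_⟩
  rw [Sylow.coe_mapSurjective] at hx
  obtain ⟨y, hy, rfl⟩ := hx
  exact ⟨_, ⟨_, hy, rfl⟩, rfl⟩

/-- A coprime element centralising the centraliser of a fixed element centralises everything. -/
theorem centralizes_of_fixed {s i : ℕ} [Fact s.Prime] {W : Subgroup G} (hWp : IsPGroup s W) {g w' : G}
    (hgo : (orderOf g).Coprime s) (hgN : g ∈ normalizer (W : Set G)) (hw' : w' ∈ W) (ho : orderOf w' = s ^ i)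
    (hgw' : Commute w' g) (hfix : ∀ x ∈ W, Commute x w' → Commute x g) : ∀ x ∈ W, Commute g x := by
  have hall : zpowers g ≤ centralizer (W : Set G) :=
    CfsgLib.thompson_PxQ (P := zpowers w') (Q := zpowers g)
      (IsPGroup.of_card (n := i) (by rw [Nat.card_zpowers, ho]))
      (by rw [Nat.card_zpowers]; exact hgo)
      (zpowers_le.mpr fun x hx => by
        obtain ⟨n, rfl⟩ := mem_zpowers_iff.mp hx
        exact ((hgw'.zpow_right n).symm).eq)
      W hWp (zpowers_le.mpr (le_normalizer hw')) (zpowers_le.mpr hgN) fun x hx y hy => by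
        obtain ⟨n, rfl⟩ := mem_zpowers_iff.mp hy
        have hgx : Commute x g := hfix x hx.1 (hx.2 w' (mem_zpowers w')).symm
        exact ((hgx.zpow_right n).symm).eq
  exact fun x hx => (hall (mem_zpowers g) x hx).symm

namespace Two

variable {a b : ℕ} (h : Two G a b)
include h

/-- Involution centralisers in quotients over the centre have normal 2-complements. -/
theorem good_quotient {R0 : Subgroup G} [R0.Normal] (hZ : center G ≤ R0) {t : G ⧸ R0} (ht : orderOf t = 2) :
    HasNormalPComplement 2 (centralizer ({t} : Set (G ⧸ R0))) := by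
  haveI := Fact.mk Nat.prime_two
  set π := QuotientGroup.mk' R0
  obtain ⟨g0, rfl⟩ := QuotientGroup.mk'_surjective R0 t
  obtain ⟨n, k, hk, hx0⟩ := exists_primary_lift π (k := 1) (ht.trans (pow_one 2).symm)
  rw [← hx0] at ht ⊢
  set w := g0 ^ n
  have hwR : w ∉ R0 := fun e => by
    rw [show π w = 1 from (QuotientGroup.eq_one_iff w).mpr e, orderOf_one] at ht
    omega
  have hnC := h.good (fun e => hwR (hZ e)) hk
  rw [CfsgLib.hasNormalPComplement_iff_pResidual] at hnC ⊢
  set C := centralizer ({w} : Set G)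
  set Cq := centralizer ({π w} : Set (G ⧸ R0))
  have hle : (pResidual 2 Cq).map Cq.subtype ≤ ((pResidual 2 C).map C.subtype).map π := by
    rw [map_le_iff_le_comap]
    refine CfsgLib.pResidual_le fun v hv => ?_
    obtain ⟨g1, hg1⟩ := QuotientGroup.mk'_surjective R0 (v : G ⧸ R0)
    obtain ⟨g, W, w', hgπ, hgo, hWp, hwW, hgN, hw'W, hw'R, hgw', -⟩ := exists_fixing_lift (s := 2) hwR hk (g0 := g1)
      (show (orderOf (π g1)).Coprime 2 by rw [hg1, Subgroup.orderOf_coe]; exact hv)
      (show Commute (π w) (π g1) by rw [hg1]; exact (mem_cent.mp v.2).symm)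
    obtain ⟨l, hl⟩ := IsPGroup.iff_orderOf.mp hWp ⟨w', hw'W⟩
    rw [Subgroup.orderOf_mk] at hl
    set C' := centralizer ({w'} : Set G)
    have hn' : HasNormalPComplement 2 C' := h.good (fun e => hw'R (hZ e)) hl
    have hgC' : g ∈ C' := mem_cent.mpr hgw'.eq.symm
    -- the element centralises the centraliser of the fixed lift
    have hfix : ∀ x ∈ W, Commute x w' → Commute x g := by
      intro x hx hxw
      have hxC : x ∈ C' := mem_cent.mpr hxw.eq
      have hgO : (⟨g, hgC'⟩ : C') ∈ pPrimeCore 2 C' :=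
        CfsgLib.mem_pPrimeCore_of_hasNormalPComplement hn' (by rwa [Subgroup.orderOf_mk])
      have hcO : ⁅(⟨x, hxC⟩ : C'), ⟨g, hgC'⟩⁆ ∈ pPrimeCore 2 C' := by
        rw [commutatorElement_def]
        exact mul_mem ((inferInstance : (pPrimeCore 2 C').Normal).conj_mem _ hgO _) (inv_mem hgO)
      have hcW : ⁅x, g⁆ ∈ W := by
        rw [commutatorElement_def, show x * g * x⁻¹ * g⁻¹ = x * (g * x⁻¹ * g⁻¹) by group]
        exact W.mul_mem hx ((Subgroup.mem_normalizer_iff.mp hgN x⁻¹).mp (inv_mem hx))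
      obtain ⟨e1, he1⟩ := IsPGroup.iff_orderOf.mp hWp ⟨_, hcW⟩
      rw [Subgroup.orderOf_mk] at he1
      have h2 := (Nat.coprime_two_right.mp ((CfsgLib.card_pPrimeCore_coprime (G := C') 2).coprime_dvd_left
        (Subgroup.orderOf_dvd_natCard _ hcO)))
      rw [← Subgroup.orderOf_coe] at h2
      have h3 : orderOf ⁅x, g⁆ = 1 := Nat.eq_one_of_dvd_coprimes
        ((Nat.coprime_two_left.mpr h2).pow_left e1) (he1.dvd) dvd_rfl
      exact commutatorElement_eq_one_iff_commute.mp (orderOf_eq_one_iff.mp h3)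
    have hgW := centralizes_of_fixed hWp hgo hgN hw'W hl hgw' hfix
    refine ⟨g, ⟨⟨g, mem_cent.mpr (hgW w hwW).eq⟩, CfsgLib.mem_pResidual (by rwa [Subgroup.orderOf_mk]), rfl⟩, ?_⟩
    exact (show π g = π g1 from hgπ).trans hg1
  rw [← Subgroup.card_map_of_injective (K := pResidual 2 Cq) Cq.subtype_injective]
  refine Nat.Coprime.coprime_dvd_left ((card_dvd_of_le hle).trans (Subgroup.card_map_dvd _ π)) ?_
  rwa [Subgroup.card_map_of_injective (subtype_injective _)]

end Two

end CfsgLib.ClassThree
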