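import Cfsg.Agent.Lib.ClassThree.Semisimple
import Cfsg.Agent.Lib.Components
import Cfsg.Agent.Lib.Coprime

/-!
A nonsolvable group with two sizes of noncentral centralisers has no noncentral abelian normal subgroup of prime
power order.  All noncentral elements outside the solvable radical have the small centraliser; this makes the
radical central at the primes of the socle of the quotient, and three primes which are pairwise not joined give a
contradiction.
-/

set_option autoImplicit false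
set_option linter.unusedSectionVars false
set_option linter.style.haveILetI false

namespace CfsgLib.ClassThree

open Subgroup Cfsg CfsgLib.ConjRankThree
open scoped commutatorElement

universe u

variable {G : Type u} [Group G] [Finite G]

/-- The centraliser of a large centraliser's element acts trivially modulo the centre on an invariant abelian
subgroup. -/
theorem comm_central_of_max {x : G} {A : Subgroup G} (hA : ∀ u ∈ A, ∀ v ∈ A, u * v = v * u)
    (hN : centralizer ({x} : Set G) ≤ normalizer (A : Set G))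
    (hmax : ∀ y : G, y ∉ center G → cc y ≤ cc x) {v : G} (hv : v ∈ A) :
    v⁻¹ * (x * v * x⁻¹) ∈ center G := by
  classical
  set C := centralizer ({x} : Set G) with hC
  set u := v⁻¹ * (x * v * x⁻¹) with hu
  have huA : u ∈ A := mul_mem (inv_mem hv) ((mem_normalizer_iff.mp (hN (self_mem x)) v).mp hv)
  by_cases hvC : v ∈ C
  · rw [hu, ← mem_cent.mp hvC, mul_inv_cancel_right, inv_mul_cancel]
    exact one_mem _
  by_contra huZ
  set C' := C.map (MulAut.conj v⁻¹).toMonoidHom with hC'
  set D := C ⊓ C' with hD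
  set H := A ⊔ D with hH
  set K := C ⊔ A with hK
  have hcard' : Nat.card C' = Nat.card C :=
    (Nat.card_congr (C.equivMapOfInjective _ (MulAut.conj v⁻¹).injective).toEquiv).symm
  have hHle : H ≤ centralizer ({u} : Set G) := by
    refine sup_le (fun w hw => mem_cent.mpr (hA w hw u huA)) fun d hd => ?_
    have hdx : Commute d x := mem_cent.mp hd.1
    obtain ⟨c, hc, e⟩ := hd.2
    have hdy : Commute d (v⁻¹ * x * v) := by
      have e' : v⁻¹ * c * v⁻¹⁻¹ = d := e
      show d * (v⁻¹ * x * v) = v⁻¹ * x * v * d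
      rw [← e', show v⁻¹ * c * v⁻¹⁻¹ * (v⁻¹ * x * v) = v⁻¹ * (c * x) * v by group, mem_cent.mp hc]
      group
    refine mem_cent.mpr ?_
    rw [hu, show v⁻¹ * (x * v * x⁻¹) = v⁻¹ * x * v * x⁻¹ by group]
    exact (hdy.mul_right hdx.inv_right).eq
  have hC'K : C' ≤ K := by
    rintro _ ⟨c, hc, rfl⟩
    exact mul_mem (mul_mem (inv_mem (mem_sup_right hv)) (mem_sup_left hc)) (inv_mem (inv_mem (mem_sup_right hv)))
  -- the product of two conjugate proper subgroups is not the whole
  have h1 : C'.relIndex C < C'.relIndex K := by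
    set f := quotientSubgroupOfEmbeddingOfLE C' (le_sup_left : C ≤ K)
    haveI := Fintype.ofFinite (C ⧸ C'.subgroupOf C)
    haveI := Fintype.ofFinite (K ⧸ C'.subgroupOf K)
    rw [relIndex, relIndex, index_eq_card, index_eq_card, Nat.card_eq_fintype_card, Nat.card_eq_fintype_card]
    refine Fintype.card_lt_of_injective_of_notMem f f.injective (b := QuotientGroup.mk ⟨v, mem_sup_right hv⟩) ?_
    rintro ⟨q, hq⟩
    induction q using QuotientGroup.induction_on with
    | H c =>
      rw [quotientSubgroupOfEmbeddingOfLE_apply_mk, QuotientGroup.eq, mem_subgroupOf] at hq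
      obtain ⟨c', hc', e⟩ := hq
      have e' : v⁻¹ * c' * v⁻¹⁻¹ = (c : G)⁻¹ * v := e
      refine hvC ?_
      rw [inv_inv, mul_left_inj] at e'
      rw [show v = c' * (c : G) from by rw [show c' = v * (c : G)⁻¹ by rw [← e']; group]; group]
      exact mul_mem hc' c.2
  -- the index of `C` in the join
  have h2 : C.relIndex K ≤ C.relIndex A := by
    set f := quotientSubgroupOfEmbeddingOfLE C (le_sup_right : A ≤ K)
    rw [relIndex, relIndex, index_eq_card, index_eq_card]
    refine Nat.card_le_card_of_surjective f fun q => ?_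
    induction q using QuotientGroup.induction_on with
    | H k =>
      obtain ⟨a', ha', c, hc, e⟩ := CfsgLib.mem_sup_of_le_normalizer hN
        (show (k : G) ∈ A ⊔ C from by rw [sup_comm]; exact k.2)
      refine ⟨QuotientGroup.mk ⟨a', ha'⟩, ?_⟩
      rw [quotientSubgroupOfEmbeddingOfLE_apply_mk, QuotientGroup.eq, mem_subgroupOf]
      show a'⁻¹ * (k : G) ∈ C
      rw [← e, inv_mul_cancel_left]
      exact hc
  have h3 : C.relIndex A ≤ D.relIndex H := by
    have e1 : D.relIndex A = C.relIndex A := by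
      rw [← inf_relIndex_right D A, ← inf_relIndex_right C A]
      congr 1
      refine le_antisymm (inf_le_inf_right _ inf_le_left) fun w hw => ⟨⟨hw.1, ?_⟩, hw.2⟩
      refine ⟨w, hw.1, ?_⟩
      show v⁻¹ * w * v⁻¹⁻¹ = w
      rw [inv_inv, mul_assoc, hA w hw.2 v hv, inv_mul_cancel_left]
    rw [← e1]
    exact relIndex_le_of_le_right le_sup_left (by
      rw [relIndex]; exact index_ne_zero_of_finite)
  have e1 := relIndex_mul_relIndex (⊥ : Subgroup G) C' K bot_le hC'K
  have e2 := relIndex_mul_relIndex (⊥ : Subgroup G) C K bot_le le_sup_left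
  have e3 := relIndex_mul_relIndex (⊥ : Subgroup G) D C bot_le inf_le_left
  have e4 := relIndex_mul_relIndex (⊥ : Subgroup G) D H bot_le le_sup_right
  simp only [relIndex_bot_left] at e1 e2 e3 e4
  have h4 : C'.relIndex K = C.relIndex K := by
    rw [hcard'] at e1
    exact Nat.eq_of_mul_eq_mul_left Nat.card_pos (e1.trans e2.symm)
  have h5 : D.relIndex C = C'.relIndex C := by rw [hD, inf_comm, inf_relIndex_right]
  have h6 : Nat.card H ≤ cc x := (card_le_of_le hHle).trans (hmax u huZ)
  have h7 : Nat.card C < Nat.card H := by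
    rw [← e3, ← e4, h5]
    exact Nat.mul_lt_mul_of_pos_left (h1.trans_le (h4 ▸ h2.trans h3)) Nat.card_pos
  exact absurd h6 (not_le.mpr h7)

namespace Two

variable {a b : ℕ} (h : Two G a b) {q : ℕ} [hq : Fact q.Prime] {V : Subgroup G} [hVn : V.Normal]
  (hVq : IsPGroup q V) (hVab : ∀ u ∈ V, ∀ v ∈ V, u * v = v * u) (hVnc : ¬ V ≤ center G)
include h hVnc

theorem centralizer_le_radical : centralizer (V : Set G) ≤ solvableRadical G := by
  obtain ⟨v, hv, hvc⟩ := SetLike.not_le_iff_exists.mp hVnc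
  exact le_solvableRadical (h.solvable_le hvc fun g hg => (hg v hv).symm)

include hVab

/-- The elements with large centraliser lie in the radical and act trivially modulo the centre. -/
theorem big_mem {x : G} (hxa : cc x = a) :
    x ∈ solvableRadical G ∧ ∀ v ∈ V, v⁻¹ * (x * v * x⁻¹) ∈ center G := by
  set π := QuotientGroup.mk' (center G)
  set K1 := (centralizer ((V.map π : Subgroup (G ⧸ center G)) : Set (G ⧸ center G))).comap π with hK1
  haveI : (V.map π).Normal := hVn.map π (QuotientGroup.mk'_surjective _)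
  haveI : K1.Normal := by rw [hK1]; infer_instance
  have hmax : ∀ y : G, y ∉ center G → cc y ≤ cc x := fun y hy => by
    rcases h.vals y hy with e | e <;> rw [e, hxa]
    exact h.lt.le
  have hx : ∀ v ∈ V, v⁻¹ * (x * v * x⁻¹) ∈ center G := fun v hv =>
    comm_central_of_max hVab (fun g _ => by rw [normalizer_eq_top]; trivial) hmax hv
  refine ⟨?_, hx⟩
  have hxK : x ∈ K1 := by
    rintro _ ⟨v, hv, rfl⟩
    show π v * π x = π x * π v
    have e : π (v⁻¹ * (x * v * x⁻¹)) = 1 := (QuotientGroup.eq_one_iff _).mpr (hx v hv)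
    rw [map_mul, map_inv, inv_mul_eq_one, map_mul, map_mul, map_inv] at e
    exact eq_mul_inv_iff_mul_eq.mp e
  refine le_solvableRadical (N := K1) ?_ hxK
  have hcomm : ⁅K1, K1⁆ ≤ centralizer (V : Set G) := by
    rw [commutator_le]
    intro g hg k hk v hv
    have hact : ∀ {g : G}, g ∈ K1 → ∀ v ∈ V, v⁻¹ * (g * v * g⁻¹) ∈ center G := fun {g} hg v hv => by
      refine QuotientGroup.eq.mp ?_
      show π v = π (g * v * g⁻¹)
      rw [map_mul, map_mul, map_inv, ← hg (π v) ⟨v, hv, rfl⟩, mul_inv_cancel_right]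
    set z := v⁻¹ * (g * v * g⁻¹) with hz
    set z' := v⁻¹ * (k * v * k⁻¹) with hz'
    have hzc : z ∈ center G := hact hg v hv
    have hzc' : z' ∈ center G := hact hk v hv
    have e1 : g * k * v * (g * k)⁻¹ = v * z * z' := by
      calc g * k * v * (g * k)⁻¹ = g * (k * v * k⁻¹) * g⁻¹ := by group
        _ = g * (v * z') * g⁻¹ := by rw [hz']; group
        _ = g * v * g⁻¹ * (g * z' * g⁻¹) := by group
        _ = v * z * z' := by rw [mem_center_iff.mp hzc' g, mul_inv_cancel_right, hz]; group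
    have e2 : k * g * v * (k * g)⁻¹ = v * z * z' := by
      calc k * g * v * (k * g)⁻¹ = k * (g * v * g⁻¹) * k⁻¹ := by group
        _ = k * (v * z) * k⁻¹ := by rw [hz]; group
        _ = k * v * k⁻¹ * (k * z * k⁻¹) := by group
        _ = v * z' * z := by rw [mem_center_iff.mp hzc k, mul_inv_cancel_right, hz']; group
        _ = v * z * z' := by rw [mul_assoc, mem_center_iff.mp hzc z', ← mul_assoc]
    have e3 : ⁅g, k⁆ * (v * z * z') = v * z * z' * ⁅g, k⁆ := by
      rw [show ⁅g, k⁆ = g * k * (k * g)⁻¹ by rw [commutatorElement_def]; group]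
      calc g * k * (k * g)⁻¹ * (v * z * z') = g * k * v * (k * g)⁻¹ := by rw [← e2]; group
        _ = v * z * z' * (g * k * (k * g)⁻¹) := by rw [← e1]; group
    have hzz : z * z' ∈ center G := mul_mem hzc hzc'
    rw [mul_assoc v z z', ← mul_assoc, mul_assoc v (z * z') ⁅g, k⁆, ← mem_center_iff.mp hzz ⁅g, k⁆, ← mul_assoc] at e3
    rw [mul_assoc (⁅g, k⁆ * v) z z'] at e3
    exact (mul_right_cancel (e3.trans (mul_assoc _ _ _).symm)).symm
  have hCs : Group.IsSolvable (centralizer (V : Set G)) :=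
    isSolvable_of_le (h.centralizer_le_radical hVnc) isSolvable_solvableRadical
  refine (Group.isSolvable_iff_subgroup_quotient ((centralizer (V : Set G)).subgroupOf K1)).mpr ⟨?_, ?_⟩
  · haveI := hCs
    exact Group.isSolvable_of_isSolvable_injective
      (f := ((centralizer (V : Set G)).subtype.comp (MonoidHom.id _)).codRestrict (centralizer (V : Set G))
        (fun w => w.2) |>.comp (K1.subtype.subgroupComap (centralizer (V : Set G))))
      (fun u w e => Subtype.ext (Subtype.ext (congrArg (fun t : centralizer (V : Set G) => (t : G)) e)))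
  · refine Group.isSolvable_of_comm fun u w => ?_
    induction u using QuotientGroup.induction_on with
    | H g =>
      induction w using QuotientGroup.induction_on with
      | H k =>
        rw [← QuotientGroup.mk_mul, ← QuotientGroup.mk_mul, QuotientGroup.eq, mem_subgroupOf]
        have := hcomm (commutator_mem_commutator (inv_mem k.2) (inv_mem g.2))
        rw [commutatorElement_def] at this
        simpa [mul_assoc] using this

/-- Outside the radical all centralisers are small. -/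
theorem small_outside {x : G} (hx : x ∉ solvableRadical G) (hxZ : x ∉ center G) : cc x = b :=
  (h.vals x hxZ).resolve_left fun e => hx (h.big_mem hVab hVnc e).1

include hVq

/-- A noncentral element of prime power order commuting with an element outside the radical, at two further
primes, has the small centraliser. -/
theorem small_of_commute {s t i j : ℕ} (hs : s.Prime) (ht : t.Prime) (hst : s ≠ t) (hsq : s ≠ q) (htq : t ≠ q)
    {y : G} (hy : y ∉ solvableRadical G) (hyZ : y ∉ center G) (hyo : orderOf y = t ^ j) {w : G}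
    (hw : w ∉ center G) (hwo : orderOf w = s ^ i) (hc : Commute y w) :
    cc w = b ∧ centralizer ({w} : Set G) = centralizer ({y} : Set G) := by
  have hyb := h.small_outside hVab hVnc hy hyZ
  have hco : (orderOf w).Coprime (orderOf y) := coprime_of_not_eq hs ht hst ⟨i, hwo⟩ ⟨j, hyo⟩
  have hle : centralizer ({y} : Set G) ≤ centralizer ({w} : Set G) := h.le_of_b hyb hyZ hc hco.symm
  suffices hwb : cc w = b from ⟨hwb, (eq_of_le_of_card_ge hle (hwb.trans hyb.symm).le).symm⟩
  refine (h.vals w hw).resolve_left fun hwa => ?_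
  have hVC : V ≤ centralizer ({w} : Set G) := by
    intro v hv
    set z := v⁻¹ * (w * v * w⁻¹) with hz
    have hzc : z ∈ center G := (h.big_mem hVab hVnc hwa).2 v hv
    have hzV : z ∈ V := mul_mem (inv_mem hv) (hVn.conj_mem v hv w)
    have hit : ∀ n : ℕ, w ^ n * v * (w ^ n)⁻¹ = v * z ^ n := fun n => by
      induction n with
      | zero => simp
      | succ n ih =>
        calc w ^ (n + 1) * v * (w ^ (n + 1))⁻¹ = w * (w ^ n * v * (w ^ n)⁻¹) * w⁻¹ := by rw [pow_succ']; group
          _ = (w * v * w⁻¹) * (w * z ^ n * w⁻¹) := by rw [ih]; group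
          _ = v * z * z ^ n := by
            rw [show w * v * w⁻¹ = v * z by rw [hz]; group, mem_center_iff.mp (pow_mem hzc n) w,
              mul_inv_cancel_right]
          _ = v * z ^ (n + 1) := by rw [pow_succ', mul_assoc]
    have e1 := hit (orderOf w)
    rw [pow_orderOf_eq_one, one_mul, inv_one, mul_one] at e1
    obtain ⟨l, hl⟩ := IsPGroup.iff_orderOf.mp hVq ⟨z, hzV⟩
    rw [Subgroup.orderOf_mk] at hl
    have h4 := Nat.eq_one_of_dvd_coprimes (Nat.Coprime.pow i l ((Nat.coprime_primes hs hq.out).mpr hsq))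
      ((orderOf_dvd_of_pow_eq_one (mul_eq_left.mp e1.symm)).trans hwo.dvd) hl.dvd
    have e2 : w * v * w⁻¹ = v := by
      rw [show w * v * w⁻¹ = v * z by rw [hz]; group, orderOf_eq_one_iff.mp h4, mul_one]
    exact mem_cent.mpr (mul_inv_eq_iff_eq_mul.mp e2).symm
  set C := centralizer ({w} : Set G) with hC
  have hyC : y ∈ C := mem_cent.mpr hc.eq
  have hync : (⟨y, hyC⟩ : C) ∉ center C := fun hcen => by
    have h1 := card_le_of_le ((mem_center_sub_iff (⟨y, hyC⟩ : C)).mp hcen)
    have : cc w ≤ cc y := h1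
    rw [hwa, hyb] at this
    exact absurd this (not_le.mpr h.lt)
  obtain ⟨-, -, hba⟩ := h.cc_regular hw ⟨y, hyC⟩ hco hync
  -- `q` divides the ratio
  have hqm : q ∣ a / b := by
    by_contra hqm
    set C' := centralizer ({y} : Set G)
    have h1 : C'.relIndex (C' ⊔ V) ∣ C'.relIndex C := by
      rw [← relIndex_mul_relIndex C' (C' ⊔ V) C le_sup_left (sup_le hle hVC)]
      exact dvd_mul_right _ _
    have h2 : C'.relIndex C = a / b := by
      have e := relIndex_mul_relIndex (⊥ : Subgroup G) C' C bot_le hle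
      simp only [relIndex_bot_left] at e
      have e' : b * C'.relIndex C = a := by rw [← hyb, ← hwa]; exact e
      exact (Nat.div_eq_of_eq_mul_right (hyb ▸ cc_pos y) e'.symm).symm
    have h3 : C'.relIndex V = 1 := by
      have hd : C'.relIndex V ∣ Nat.card V := index_dvd_card _
      obtain ⟨l, hl⟩ := hVq.exists_card_eq
      rw [hl] at hd
      obtain ⟨l', -, hl'⟩ := (Nat.dvd_prime_pow hq.out).mp hd
      rw [hl']
      rcases Nat.eq_zero_or_pos l' with rfl | hl0
      · exact pow_zero q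
      · refine absurd ?_ hqm
        rw [← h2]
        refine ((dvd_pow_self q hl0.ne').trans (hl' ▸ ?_)).trans h1
        refine dvd_of_eq ?_
        have a1 := relIndex_mul_relIndex (⊥ : Subgroup G) V (C' ⊔ V) bot_le le_sup_right
        have a2 := relIndex_mul_relIndex (⊥ : Subgroup G) C' (C' ⊔ V) bot_le le_sup_left
        have a3 := relIndex_mul_relIndex (⊥ : Subgroup G) (C' ⊓ V) V bot_le inf_le_right
        have a4 := relIndex_mul_relIndex (⊥ : Subgroup G) (V ⊓ C') C' bot_le inf_le_right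
        simp only [relIndex_bot_left, inf_relIndex_right] at a1 a2 a3 a4
        rw [relIndex_sup_right, ← a3, inf_comm] at a1
        rw [← a1, ← a4] at a2
        refine (Nat.eq_of_mul_eq_mul_left (Nat.pos_of_ne_zero (mul_ne_zero Nat.card_pos.ne'
          (show V.relIndex C' ≠ 0 from index_ne_zero_of_finite))) (a2.trans (by ring))).symm
    have h4 : y ∈ centralizer (V : Set G) := fun v hv => mem_cent.mp (relIndex_eq_one.mp h3 hv)
    exact hy (h.centralizer_le_radical hVnc h4)
  have hco' : (orderOf (⟨y, hyC⟩ : C)).Coprime s := by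
    rw [Subgroup.orderOf_mk, hyo]; exact ((Nat.coprime_primes ht hs).mpr hst.symm).pow_left j
  rcases h.shape_in hw hC.symm hs hwo hco' hync with h1 | ⟨q', -, -, h1, h2⟩
  · exact hsq (h1 q hq.out hqm).symm
  · have hq' : q = q' := (h1 q hq.out hqm).resolve_left (Ne.symm hsq)
    exact hync (h2 ⟨y, hyC⟩ t j ht hst.symm (hq' ▸ htq) (by rw [Subgroup.orderOf_mk, hyo]))

omit hVq

/-- Elements of coprime order commuting modulo the radical with an element of prime power order lift to elements
centralising it and a Sylow subgroup of the radical. -/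
theorem lift_centralizes {s i : ℕ} [Fact s.Prime] {w : G} (hw : w ∉ solvableRadical G) (hwo : orderOf w = s ^ i)
    {g0 : G} (hg0 : (orderOf (g0 : G ⧸ solvableRadical G)).Coprime s)
    (hc : Commute (w : G ⧸ solvableRadical G) g0) :
    ∃ g : G, (g : G ⧸ solvableRadical G) = g0 ∧ (orderOf g).Coprime s ∧ Commute g w ∧
      ∃ S : Sylow s (solvableRadical G), ∀ x ∈ (S : Subgroup (solvableRadical G)), Commute g x := by
  obtain ⟨g, W, w', hgπ, hgo, hWp, hwW, hgN, hw'W, hw'R, hgw', S, hS⟩ := exists_fixing_lift hw hwo hg0 hc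
  obtain ⟨i', hi'⟩ := IsPGroup.iff_orderOf.mp hWp ⟨w', hw'W⟩
  rw [Subgroup.orderOf_mk] at hi'
  have hw'Z : w' ∉ center G := fun h' => hw'R
    (le_solvableRadical (Group.isSolvable_of_comm fun u v => Subtype.ext (mem_center_iff.mp v.2 u)) h')
  have hle := h.le_of_b (h.small_outside hVab hVnc hw'R hw'Z) hw'Z hgw' (hi' ▸ (hgo.symm.pow_left i'))
  have hgW := centralizes_of_fixed hWp hgo hgN hw'W hi' hgw'
    fun x _ hx => mem_cent.mp (hle (mem_cent.mpr hx.eq))
  exact ⟨g, hgπ, hgo, hgW w hwW, S, fun x hx => hgW _ (hS x hx)⟩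

include hVq

/-- A Sylow subgroup of the radical centralised by something outside is central. -/
theorem radical_central_of_centralized {s : ℕ} [Fact s.Prime] (S : Sylow s (solvableRadical G)) {y : G}
    (hy : y ∉ solvableRadical G) (hc : ∀ x ∈ (S : Subgroup (solvableRadical G)), Commute y x)
    {g : G} (hg : g ∈ solvableRadical G) {k : ℕ} (hgo : orderOf g = s ^ k) : g ∈ center G := by
  set S0 := (S : Subgroup (solvableRadical G)).map (solvableRadical G).subtype with hS0
  suffices hS : S0 ≤ center G by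
    obtain ⟨S', hS'⟩ := exists_sylow_of_mem (G := (solvableRadical G)) (r := s) (x := ⟨g, hg⟩)
      ⟨k, by rw [Subgroup.orderOf_mk, hgo]⟩
    obtain ⟨c, hc'⟩ := MulAction.exists_smul_eq (solvableRadical G) S S'
    rw [← hc', Sylow.coe_subgroup_smul] at hS'
    obtain ⟨v, hv, e⟩ := hS'
    have e' : (c : G) * v * (c : G)⁻¹ = g := congrArg Subtype.val e
    have hv' : (v : G) ∈ center G := hS ⟨v, hv, rfl⟩
    rw [← e', mem_center_iff.mp hv' (c : G), mul_inv_cancel_right]
    exact hv'
  by_contra hS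
  obtain ⟨v, hv, hvc⟩ := SetLike.not_le_iff_exists.mp hS
  set H := centralizer (S0 : Set G) ⊔ (solvableRadical G)
  have hCs : Group.IsSolvable (centralizer (S0 : Set G)) := h.solvable_le hvc fun g hg => (hg v hv).symm
  haveI : H.Normal := by
    rw [← normalizer_eq_top_iff, eq_top_iff, ← (S.normalizer_sup_eq_top : normalizer (S0 : Set G) ⊔ (solvableRadical G) = ⊤)]
    refine sup_le (fun m hm => ?_) (le_sup_right.trans le_normalizer)
    rw [Subgroup.mem_normalizer_iff_map_conj_eq]
    refine eq_of_le_of_card_ge ?_ (le_of_eq (Nat.card_congr (H.equivMapOfInjective _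
      (MulAut.conj m).injective).toEquiv))
    rw [Subgroup.map_sup]
    refine sup_le_sup ?_ ?_
    · rintro _ ⟨c, hc', rfl⟩ x hx
      have hx' := (Subgroup.mem_normalizer_iff''.mp hm x).mp hx
      show x * (m * c * m⁻¹) = m * c * m⁻¹ * x
      calc x * (m * c * m⁻¹) = m * (m⁻¹ * x * m * c) * m⁻¹ := by group
        _ = m * (c * (m⁻¹ * x * m)) * m⁻¹ := by rw [hc' _ hx']
        _ = _ := by group
    · rintro _ ⟨c, hc', rfl⟩
      exact (inferInstance : (solvableRadical G).Normal).conj_mem c hc' m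
  refine hy ((le_solvableRadical (N := H) (isSolvable_sup_of_normal hCs isSolvable_solvableRadical))
    (mem_sup_left ?_))
  rintro _ ⟨x, hx, rfl⟩
  exact (hc x hx).symm.eq

/-- An element of a third prime outside the radical commutes with no noncentral element of the radical. -/
theorem central_of_commute_outside {s t j : ℕ} [Fact s.Prime] [Fact t.Prime] (hst : s ≠ t) (hsq : s ≠ q)
    (htq : t ≠ q) {y : G} (hy : y ∉ solvableRadical G) (hyZ : y ∉ center G) (hyo : orderOf y = t ^ j) {w : G}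
    (hw : w ∈ solvableRadical G) {i : ℕ} (hwo : orderOf w = s ^ i) (hc : Commute y w) : w ∈ center G := by
  have hs : s.Prime := Fact.out
  have ht : t.Prime := Fact.out
  by_contra hwZ
  set R0 := solvableRadical G
  set C := centralizer ({y} : Set G) with hC
  have hyb := h.small_outside hVab hVnc hy hyZ
  obtain ⟨hwb, hCw⟩ := h.small_of_commute hVq hVab hVnc hs ht hst hsq htq hy hyZ hyo hwZ hwo hc
  have hcomS : ∀ {x v : G} {l : ℕ}, x ∈ C → orderOf x = s ^ l → v ∈ C → Commute v x := fun {x v l} hx hxo hv =>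
    h.commute_of_b hyb hyZ ht hyo (mem_cent.mp hx).symm
      (fun hd => hst ((Nat.prime_dvd_prime_iff_eq ht hs).mp (ht.dvd_of_dvd_pow (hxo ▸ hd))).symm)
      (mem_cent.mp hv).symm
  have hcomT : ∀ {x v : G} {l : ℕ}, x ∈ C → orderOf x = t ^ l → v ∈ C → Commute v x := fun {x v l} hx hxo hv =>
    h.commute_of_b hwb hwZ hs hwo (mem_cent.mp (show x ∈ centralizer ({w} : Set G) from hCw ▸ hx)).symm
      (fun hd => hst ((Nat.prime_dvd_prime_iff_eq hs ht).mp (hs.dvd_of_dvd_pow (hxo ▸ hd))))
      (mem_cent.mp (show v ∈ centralizer ({w} : Set G) from hCw ▸ hv)).symm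
  -- the `s`-part of the centraliser in the radical
  set CR := C ⊓ R0
  obtain ⟨P0⟩ : Nonempty (Sylow s CR) := inferInstance
  set P := (P0 : Subgroup CR).map CR.subtype with hP
  have hPle : P ≤ CR := map_subtype_le _
  have hmemP : ∀ {x : G} {l : ℕ}, x ∈ CR → orderOf x = s ^ l → x ∈ P := fun {x l} hx hxo =>
    ⟨⟨x, hx⟩, CfsgLib.mem_sylow_of_mem_centralizer P0 ⟨l, by
      refine Subtype.ext ?_
      show x ^ s ^ l = 1
      rw [← hxo, pow_orderOf_eq_one]⟩ fun v hv => Subtype.ext (hcomS hx.1 hxo v.2.1).symm.eq, rfl⟩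
  have hwP : w ∈ P := hmemP ⟨mem_cent.mpr hc.eq.symm, hw⟩ hwo
  set PR := P.subgroupOf R0
  have hPRp : IsPGroup s PR :=
    (P0.2.map CR.subtype).comap_of_injective R0.subtype R0.subtype_injective
  obtain ⟨S, hS⟩ := hPRp.exists_le_sylow
  by_cases hSP : (S : Subgroup R0) ≤ PR
  · refine hwZ (h.radical_central_of_centralized hVq hVab hVnc S hy (fun x hx => ?_) hw hwo)
    exact (mem_cent.mp (hPle (mem_subgroupOf.mp (hSP hx))).1).symm
  have hlt : PR.subgroupOf (S : Subgroup R0) < ⊤ := lt_top_iff_ne_top.mpr fun e => hSP (subgroupOf_eq_top.mp e)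
  haveI := S.2.isNilpotent
  obtain ⟨⟨⟨g, hgR⟩, hgS⟩, hgN, hg1⟩ :=
    SetLike.exists_of_lt (Group.normalizerCondition_of_isNilpotent _ hlt)
  obtain ⟨k, hk⟩ := IsPGroup.iff_orderOf.mp S.2 ⟨⟨g, hgR⟩, hgS⟩
  rw [← Subgroup.orderOf_coe, ← Subgroup.orderOf_coe] at hk
  replace hk : orderOf g = s ^ k := hk
  have hgP : ∀ x ∈ P, g * x * g⁻¹ ∈ P := fun x hx => by
    have h1 := (Subgroup.mem_normalizer_iff.mp hgN ⟨⟨x, (hPle hx).2⟩, hS (mem_subgroupOf.mpr hx)⟩).mp
      (mem_subgroupOf.mpr (mem_subgroupOf.mpr hx))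
    exact mem_subgroupOf.mp (mem_subgroupOf.mp h1)
  -- `g` normalises `C`
  have hgC : ∀ x ∈ C, g * x * g⁻¹ ∈ C := by
    intro x hx
    have hback : g⁻¹ * w * g ∈ P := by
      have e : (P.map (MulAut.conj g).toMonoidHom) = P := eq_of_le_of_card_ge
        (by rintro _ ⟨v, hv, rfl⟩; exact hgP v hv)
        (le_of_eq (Nat.card_congr (P.equivMapOfInjective _ (MulAut.conj g).injective).toEquiv))
      have hw' : w ∈ P.map (MulAut.conj g).toMonoidHom := e.symm ▸ hwP
      obtain ⟨v, hv, e'⟩ := hw'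
      have e'' : g * v * g⁻¹ = w := e'
      rwa [← e'', show g⁻¹ * (g * v * g⁻¹) * g = v by group]
    obtain ⟨l, hl⟩ := IsPGroup.iff_orderOf.mp (P0.2.map CR.subtype) ⟨_, hback⟩
    rw [Subgroup.orderOf_mk] at hl
    have hcx : Commute x (g⁻¹ * w * g) := hcomS (hPle hback).1 hl hx
    have : g * x * g⁻¹ ∈ centralizer ({w} : Set G) := mem_cent.mpr (by
      calc g * x * g⁻¹ * w = g * (x * (g⁻¹ * w * g)) * g⁻¹ := by group
        _ = g * (g⁻¹ * w * g * x) * g⁻¹ := by rw [hcx.eq]
        _ = w * (g * x * g⁻¹) := by group)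
    rwa [hCw] at this
  obtain ⟨T0, hT0⟩ := exists_sylow_of_mem (G := C) (r := t) (x := ⟨y, self_mem y⟩)
    ⟨j, by rw [Subgroup.orderOf_mk, hyo]⟩
  set T := (T0 : Subgroup C).map C.subtype with hT
  have hTC : T ≤ C := map_subtype_le _
  have hyT : y ∈ T := ⟨_, hT0, rfl⟩
  have hTp : IsPGroup t T := T0.2.map _
  have hmemT : ∀ {x : G} {l : ℕ}, x ∈ C → orderOf x = t ^ l → x ∈ T := fun {x l} hx hxo =>
    ⟨⟨x, hx⟩, CfsgLib.mem_sylow_of_mem_centralizer T0 ⟨l, by
      refine Subtype.ext ?_
      show x ^ t ^ l = 1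
      rw [← hxo, pow_orderOf_eq_one]⟩ fun v _ => Subtype.ext (hcomT hx hxo v.2).symm.eq, rfl⟩
  have hgT : g ∈ normalizer (T : Set G) := by
    rw [Subgroup.mem_normalizer_iff_map_conj_eq]
    refine eq_of_le_of_card_ge ?_ (le_of_eq (Nat.card_congr (T.equivMapOfInjective _
      (MulAut.conj g).injective).toEquiv))
    rintro _ ⟨x, hx, rfl⟩
    obtain ⟨l, hl⟩ := IsPGroup.iff_orderOf.mp hTp ⟨x, hx⟩
    rw [Subgroup.orderOf_mk] at hl
    exact hmemT (hgC x (hTC hx)) ((orderOf_injective (MulAut.conj g).toMonoidHom (MulAut.conj g).injective x).trans hl)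
  have hcop : (Nat.card (zpowers g)).Coprime (Nat.card T) := by
    obtain ⟨l, hl⟩ := hTp.exists_card_eq
    rw [Nat.card_zpowers, hk, hl]
    exact Nat.Coprime.pow _ _ ((Nat.coprime_primes hs ht).mpr hst)
  have hfix : ∀ x ∈ zpowers g, x * y * x⁻¹ * y⁻¹ ∈ T ⊓ R0 := fun x hx => by
    refine ⟨T.mul_mem ((Subgroup.mem_normalizer_iff.mp (zpowers_le.mpr hgT hx) y).mp hyT) (inv_mem hyT), ?_⟩
    obtain ⟨n, rfl⟩ := mem_zpowers_iff.mp hx
    have h1 : g ^ n ∈ R0 := zpow_mem hgR n
    rw [show g ^ n * y * (g ^ n)⁻¹ * y⁻¹ = g ^ n * (y * (g ^ n)⁻¹ * y⁻¹) by group]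
    exact mul_mem h1 ((inferInstance : R0.Normal).conj_mem _ (inv_mem h1) y)
  obtain ⟨y1, hy1, hyy1⟩ := CfsgLib.coprime_fixed_quotient (A := zpowers g) (K := T) (N := T ⊓ R0)
    (zpowers_le.mpr hgT) hcop (Or.inl (Group.isSolvable_of_comm fun x z => mul_comm' x z)) inf_le_left
    (fun x hx => by
      rw [Subgroup.mem_normalizer_iff]
      intro z
      simp only [mem_inf]
      exact and_congr (Subgroup.mem_normalizer_iff.mp (le_normalizer hx) z)
        ((Subgroup.mem_normalizer_iff.mp (by rw [normalizer_eq_top]; trivial : x ∈ normalizer (R0 : Set G))) z))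
    (zpowers_le.mpr (by
      rw [Subgroup.mem_normalizer_iff]
      intro z
      simp only [mem_inf]
      exact and_congr (Subgroup.mem_normalizer_iff.mp hgT z)
        ((Subgroup.mem_normalizer_iff.mp (by rw [normalizer_eq_top]; trivial : g ∈ normalizer (R0 : Set G))) z)))
    hyT hfix
  have hy1R : y1 ∉ R0 := fun h' => hy (by
    have := mul_mem h' (inv_mem hyy1.2)
    rwa [mul_inv_rev, inv_inv, mul_inv_cancel_left] at this)
  have hy1Z : y1 ∉ center G := fun h' => hy1R
    (le_solvableRadical (Group.isSolvable_of_comm fun u v => Subtype.ext (mem_center_iff.mp v.2 u)) h')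
  obtain ⟨l, hl⟩ := IsPGroup.iff_orderOf.mp hTp ⟨y1, hy1.1⟩
  rw [Subgroup.orderOf_mk] at hl
  have e : C = centralizer ({y1} : Set G) := eq_of_le_of_card_ge
    (fun v hv => mem_cent.mpr (hcomT (hTC hy1.1) hl hv).eq)
    ((h.small_outside hVab hVnc hy1R hy1Z).trans hyb.symm).le
  have hgC' : g ∈ C := e.symm ▸ mem_cent.mpr (hy1.2 g (mem_zpowers g))
  exact hg1 (mem_subgroupOf.mpr (mem_subgroupOf.mpr (hmemP ⟨hgC', hgR⟩ hk)))

/-- There is no noncentral abelian normal subgroup of prime power order. -/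
theorem no_abelian_normal : False := by
  set R0 := solvableRadical G with hR0
  set π := QuotientGroup.mk' R0 with hπdef
  have hπ : Function.Surjective π := QuotientGroup.mk'_surjective _
  have hZR : center G ≤ R0 :=
    le_solvableRadical (Group.isSolvable_of_comm fun u v => Subtype.ext (mem_center_iff.mp v.2 u))
  have hout : ∀ g : G, π g ≠ 1 → g ∉ R0 ∧ g ∉ center G := fun g hg =>
    ⟨fun h' => hg ((QuotientGroup.eq_one_iff g).mpr h'), fun h' => hg ((QuotientGroup.eq_one_iff g).mpr (hZR h'))⟩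
  have hns : ¬ Group.IsSolvable (G ⧸ R0) := fun hs =>
    h.ns ((Group.isSolvable_iff_subgroup_quotient R0).mpr ⟨isSolvable_solvableRadical, hs⟩)
  have hrad : ∀ N : Subgroup (G ⧸ R0), N.Normal → Group.IsSolvable N → N = ⊥ := by
    intro N hN hs
    haveI := hN
    haveI := hs
    haveI := isSolvable_solvableRadical (G := G)
    have hNs : Group.IsSolvable (N.comap π) := by
      refine Group.isSolvable_of_ker_le_range (inclusion (show R0 ≤ N.comap π from fun g hg => by
        show π g ∈ N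
        rw [show π g = 1 from (QuotientGroup.eq_one_iff g).mpr hg]
        exact one_mem N))
        (π.subgroupComap N) fun x hx => ?_
      have hx' : π (x : G) = 1 := congrArg Subtype.val hx
      exact ⟨⟨(x : G), (QuotientGroup.eq_one_iff (x : G)).mp hx'⟩, Subtype.ext rfl⟩
    rw [eq_bot_iff]
    intro x hx
    obtain ⟨g, rfl⟩ := hπ x
    exact mem_bot.mpr ((QuotientGroup.eq_one_iff g).mpr (le_solvableRadical hNs hx))
  have hgood : ∀ t : G ⧸ R0, orderOf t = 2 → HasNormalPComplement 2 (centralizer ({t} : Set (G ⧸ R0))) :=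
    fun t ht => h.good_quotient hZR ht
  obtain ⟨L, hLn, hCL, hperf, hlist⟩ := exists_socle hns hrad hgood
  haveI := hLn
  -- every element of a third prime commutes with an element outside the radical
  have hcom : ∀ {s t : ℕ}, s.Prime → t.Prime → s ≠ t → s ≠ q → t ≠ q → (∃ x : L, orderOf x = s) →
      ∀ {y : G} {j : ℕ}, orderOf y = t ^ j → π y ≠ 1 →
      ∃ (w : G) (i : ℕ), orderOf w = s ^ i ∧ π w ≠ 1 ∧ Commute y w ∧ w ∉ center G := by
    intro s t hs ht hst hsq htq hes y j hyo hy1
    haveI := Fact.mk hs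
    haveI := Fact.mk ht
    obtain ⟨hyR, hyZ⟩ := hout y hy1
    obtain ⟨z0, hz0⟩ := hes
    obtain ⟨z1, hz1⟩ := hπ (z0 : G ⧸ R0)
    obtain ⟨n, i, hi, hzn⟩ := exists_primary_lift π (g := z1) (p := s) (k := 1)
      (by rw [hz1, Subgroup.orderOf_coe, hz0, pow_one])
    obtain ⟨hzR, hzZ⟩ := hout (z1 ^ n) fun e => hs.ne_one (by
      rw [hzn, hz1, ← orderOf_eq_one_iff, Subgroup.orderOf_coe, hz0] at e
      exact e)
    obtain ⟨w, hwC, hwZ, l, hl⟩ := exists_primary_in (s := s) (H := centralizer ({y} : Set G))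
      (fun g hg => mem_cent.mpr (mem_center_iff.mp hg y).symm) hzZ hi
      (show cc (z1 ^ n) ∣ cc y by
        rw [h.small_outside hVab hVnc hzR hzZ, h.small_outside hVab hVnc hyR hyZ])
    refine ⟨w, l, hl, fun e => hwZ ?_, (mem_cent.mp hwC).symm, hwZ⟩
    exact h.central_of_commute_outside hVq hVab hVnc hst hsq htq hyR hyZ hyo ((QuotientGroup.eq_one_iff w).mp e)
      hl (mem_cent.mp hwC).symm
  have hliftL : ∀ {t : ℕ}, t.Prime → (∃ x : L, orderOf x = t) →
      ∃ (y : G) (j : ℕ), orderOf y = t ^ j ∧ π y ∈ L ∧ π y ≠ 1 ∧ orderOf (π y) = t := by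
    intro t ht het
    haveI := Fact.mk ht
    obtain ⟨z0, hz0⟩ := het
    obtain ⟨z1, hz1⟩ := hπ (z0 : G ⧸ R0)
    have ho : orderOf (π z1) = t := by rw [hz1, Subgroup.orderOf_coe, hz0]
    obtain ⟨n, i, hi, hzn⟩ := exists_primary_lift π (g := z1) (p := t) (k := 1) (by rw [ho, pow_one])
    exact ⟨z1 ^ n, i, hi, by rw [hzn, hz1]; exact z0.2,
      fun e => ht.ne_one (by rw [← ho, ← hzn, e, orderOf_one]), by rw [hzn, ho]⟩
  rcases hlist with ⟨r, p, u, T, hcr, hcp⟩ | ⟨T, -, ⟨e⟩⟩
  · -- a cyclic prime `s` and another prime `t`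
    obtain ⟨s, t, hs, ht, hst, hsq, htq, hes, het, hcs, hnc⟩ : ∃ s t : ℕ, s.Prime ∧ t.Prime ∧ s ≠ t ∧ s ≠ q ∧
        t ≠ q ∧ (∃ x : L, orderOf x = s) ∧ (∃ x : L, orderOf x = t) ∧ CycSylow L s ∧ NC L t s := by
      by_cases hrq : r = q
      · exact ⟨p, u, T.hp, T.hu, T.pu, fun e => T.rp (hrq.trans e.symm), fun e => T.ru (hrq.trans e.symm),
          T.ep, T.eu, hcp, T.npu.symm⟩
      · by_cases hpq : p = q
        · exact ⟨r, u, T.hr, T.hu, T.ru, hrq, fun e => T.pu (hpq.trans e.symm), T.er, T.eu, hcr, T.nru.symm⟩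
        · exact ⟨r, p, T.hr, T.hp, T.rp, hrq, hpq, T.er, T.ep, hcr, T.nrp.symm⟩
    haveI := Fact.mk hs
    haveI := Fact.mk ht
    obtain ⟨y, j, hyo, hyL, hy1, hyπ⟩ := hliftL ht het
    obtain ⟨hyR, hyZ⟩ := hout y hy1
    obtain ⟨w, i, hwo, hw1, hyw, -⟩ := hcom hs ht hst hsq htq hes hyo hy1
    -- the radical is central at `s`
    obtain ⟨g, hgπ, -, -, S, hgS⟩ := h.lift_centralizes hVab hVnc (s := s) (hout w hw1).1 hwo (g0 := y)
      (show (orderOf (π y)).Coprime s by rw [hyπ]; exact (Nat.coprime_primes ht hs).mpr hst.symm)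
      (show Commute (π w) (π y) from (hyw.map π).symm)
    have hgR : g ∉ R0 := fun h' => hy1 ((show π g = π y from hgπ) ▸ (QuotientGroup.eq_one_iff g).mpr h')
    have hcen : ∀ x : G, π x = 1 → ∀ k, orderOf x = s ^ k → x ∈ center G := fun x hx k hk =>
      h.radical_central_of_centralized hVq hVab hVnc S hgR hgS ((QuotientGroup.eq_one_iff x).mp hx) hk
    obtain ⟨z, k, -, hzL, hz1, hzf⟩ := exists_full hπ hperf hcen hes hcs
    have hfull : s ^ (Nat.card G).factorization s ∣ cc y := by
      rwa [h.small_outside hVab hVnc hyR hyZ, ← h.small_outside hVab hVnc (hout z hz1).1 (hout z hz1).2]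
    obtain ⟨P, hP⟩ := exists_sylow_le' hfull
    obtain ⟨v, hv, hvL, hv1, l, hl⟩ := exists_in_image hπ hes P
    exact hnc.absurd ht hs hyL hvL (hyπ.trans (pow_one t).symm) hl hy1 hv1
      ((show Commute y v from (mem_cent.mp (hP hv)).symm).map π)
  · obtain ⟨s, t, hs, ht, hst, hsq, htq, hs35, hes, het, hnc⟩ : ∃ s t : ℕ, s.Prime ∧ t.Prime ∧ s ≠ t ∧ s ≠ q ∧
        t ≠ q ∧ (s = 3 ∨ s = 5) ∧ (∃ x : L, orderOf x = s) ∧ (∃ x : L, orderOf x = t) ∧ NC L t s := by
      by_cases h5 : 5 = q
      · exact ⟨3, 2, T.hp, T.hu, T.pu, fun e => T.rp (h5.trans e.symm), fun e => T.ru (h5.trans e.symm),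
          Or.inl rfl, T.ep, T.eu, T.npu.symm⟩
      · by_cases h3 : 3 = q
        · exact ⟨5, 2, T.hr, T.hu, T.ru, h5, fun e => T.pu (h3.trans e.symm), Or.inr rfl, T.er, T.eu, T.nru.symm⟩
        · exact ⟨5, 3, T.hr, T.hp, T.rp, h5, h3, Or.inr rfl, T.er, T.ep, T.nrp.symm⟩
    haveI := Fact.mk hs
    obtain ⟨y, j, hyo, hyL, hy1, hyπ⟩ := hliftL ht het
    obtain ⟨w, i, hwo, hw1, hyw, -⟩ := hcom hs ht hst hsq htq hes hyo hy1
    obtain ⟨k, hks, hk⟩ := (Nat.dvd_prime_pow hs).mp (hwo ▸ orderOf_map_dvd π w)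
    have hk0 : k ≠ 0 := fun e0 => hw1 (orderOf_eq_one_iff.mp (by rw [hk, e0, pow_zero]))
    have ho : orderOf (π w ^ s ^ (k - 1)) = s := by
      rw [orderOf_pow_of_dvd (pow_ne_zero _ hs.ne_zero) (hk ▸ pow_dvd_pow s (by omega)), hk,
        Nat.pow_div (by omega) hs.pos, show k - (k - 1) = 1 by omega, pow_one]
    have hin : π w ^ s ^ (k - 1) ∈ L := six_inner e hCL (by rw [ho]; exact hs35)
    exact hnc ⟨_, hyL⟩ ⟨_, hin⟩ (by rw [Subgroup.orderOf_mk, hyπ]) (by rw [Subgroup.orderOf_mk, ho])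
      (Subtype.ext ((hyw.map π).pow_right _).eq)

end Two

end CfsgLib.ClassThree
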