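import Cfsg.Agent.Lib.ClassThree.Lift

/-!
A nonsolvable group with two sizes of noncentral centralisers has a noncentral solvable normal subgroup.
-/

set_option autoImplicit false
set_option linter.unusedSectionVars false
set_option linter.style.haveILetI false

namespace CfsgLib.ClassThree

open Subgroup Cfsg CfsgLib.ConjRankThree
open scoped commutatorElement

universe u v

variable {G : Type u} [Group G] [Finite G]

/-- Transfer into an abelian Sylow subgroup. -/
theorem eq_one_of_central_commutator {p : ℕ} [Fact p.Prime] (P : Sylow p G)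
    (hab : IsMulCommutative (P : Subgroup G)) {z : G} (hzP : z ∈ (P : Subgroup G)) (hzG : z ∈ commutator G)
    (hzZ : z ∈ center G) : z = 1 := by
  haveI := hab
  let φ : (P : Subgroup G) →* (P : Subgroup G) := MonoidHom.id _
  letI : CommGroup (P : Subgroup G) := { (inferInstance : Group (P : Subgroup G)) with mul_comm := mul_comm' }
  have key : ∀ (k : ℕ) (g₀ : G), g₀⁻¹ * z ^ k * g₀ ∈ (P : Subgroup G) → g₀⁻¹ * z ^ k * g₀ = z ^ k := by
    intro k g₀ _
    rw [mul_assoc, ← mem_center_iff.mp (pow_mem hzZ k) g₀, inv_mul_cancel_left]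
  have h1 := MonoidHom.transfer_eq_pow φ z key
  have h2 : (MonoidHom.transfer φ) z = 1 :=
    MonoidHom.mem_ker.mp (Abelianization.commutator_subset_ker (MonoidHom.transfer φ) hzG)
  rw [h2] at h1
  have h3 : z ^ (P : Subgroup G).index = 1 := congrArg Subtype.val h1.symm
  obtain ⟨i, hi⟩ := IsPGroup.iff_orderOf.mp P.2 ⟨z, hzP⟩
  rw [Subgroup.orderOf_mk] at hi
  have h4 := Nat.eq_one_of_dvd_coprimes
    (((Fact.out : p.Prime).coprime_iff_not_dvd.mpr P.not_dvd_index).pow_left i) hi.dvd (orderOf_dvd_of_pow_eq_one h3)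
  exact orderOf_eq_one_iff.mp h4

/-- Over the centre, a cyclic Sylow subgroup of a perfect normal image yields an element of prime power order
centralised by a Sylow subgroup. -/
theorem exists_full {X : Type v} [Group X] [Finite X] {π : G →* X} (hπ : Function.Surjective π)
    {L : Subgroup X} [L.Normal] (hperf : ⁅L, L⁆ = L) {r : ℕ} [Fact r.Prime]
    (hker : ∀ g : G, π g = 1 → ∀ k, orderOf g = r ^ k → g ∈ center G)
    (hr : ∃ x : L, orderOf x = r) (hcyc : CycSylow L r) :
    ∃ (y : G) (i : ℕ), orderOf (π y) = r ^ i ∧ π y ∈ L ∧ π y ≠ 1 ∧ r ^ (Nat.card G).factorization r ∣ cc y := by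
  set M := L.comap π with hM
  haveI : M.Normal := by rw [hM]; infer_instance
  obtain ⟨R⟩ : Nonempty (Sylow r G) := inferInstance
  set RM := CfsgLib.sylowInfNormal R M with hRM
  -- the Sylow subgroup of the preimage is abelian
  let θ : (RM : Subgroup M) →* L :=
    (π.subgroupComap L).comp (RM : Subgroup M).subtype
  have hθ : IsPGroup r θ.range := by
    rw [MonoidHom.range_eq_map]
    exact (IsPGroup.map (RM.2.to_le (le_refl _) |>.of_equiv (Subgroup.topEquiv.symm)) θ)
  obtain ⟨Q, hQ⟩ := hθ.exists_le_sylow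
  haveI := hcyc Q
  haveI : IsCyclic θ.range := isCyclic_of_injective (inclusion hQ) (inclusion_injective _)
  have hθker : θ.rangeRestrict.ker ≤ center (RM : Subgroup M) := fun x hx => by
    rw [MonoidHom.ker_rangeRestrict, MonoidHom.mem_ker] at hx
    obtain ⟨k, hk⟩ := IsPGroup.iff_orderOf.mp RM.2 x
    have hx' : ((x : M) : G) ∈ center G := hker _ (congrArg Subtype.val hx) k
      (by rw [Subgroup.orderOf_coe, Subgroup.orderOf_coe, hk])
    exact mem_center_iff.mpr fun y => Subtype.ext (Subtype.ext (mem_center_iff.mp hx' ((y : M) : G)))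
  have hab : IsMulCommutative (RM : Subgroup M) :=
    MonoidHom.isMulCommutative_of_isCyclic_of_ker_le_center θ.rangeRestrict hθker
  set E := ⁅M, M⁆
  haveI : E.Normal := inferInstance
  have hmapE : E.map π = L := by
    rw [Subgroup.map_commutator, hM, map_comap_eq_self_of_surjective hπ, hperf]
  have hrE : r ∣ Nat.card E := by
    obtain ⟨x, hx⟩ := hr
    have h1 : r ∣ Nat.card L := hx ▸ orderOf_dvd_natCard x
    rw [← hmapE] at h1
    exact h1.trans (Subgroup.card_map_dvd E π)
  set RE := CfsgLib.sylowInfNormal R E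
  have hne : ((R : Subgroup G) ⊓ E).subgroupOf (R : Subgroup G) ≠ ⊥ := by
    intro e
    refine RE.ne_bot_of_dvd_card hrE (eq_bot_iff.mpr fun x hx => ?_)
    have hx' : (x : G) ∈ (R : Subgroup G) := hx
    have h1 : (⟨(x : G), hx'⟩ : (R : Subgroup G)) ∈ ((R : Subgroup G) ⊓ E).subgroupOf (R : Subgroup G) :=
      ⟨hx', x.2⟩
    rw [e, mem_bot, Subtype.ext_iff] at h1
    exact mem_bot.mpr (Subtype.ext h1)
  haveI : (((R : Subgroup G) ⊓ E).subgroupOf (R : Subgroup G)).Normal := ⟨fun x hx g => by
    rw [mem_subgroupOf] at hx ⊢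
    exact ⟨(g * x * g⁻¹).2, (inferInstance : E.Normal).conj_mem _ hx.2 _⟩⟩
  haveI := R.2.isNilpotent
  obtain ⟨⟨z, hzR⟩, hz, hz1⟩ : ∃ z, z ∈ (((R : Subgroup G) ⊓ E).subgroupOf (R : Subgroup G)) ⊓
      center (R : Subgroup G) ∧ z ≠ 1 := by
    obtain ⟨⟨z, hz⟩, hz1⟩ := ne_bot_iff_exists_ne_one.mp (CfsgLib.inf_center_ne_bot_of_nilpotent hne)
    exact ⟨z, hz, fun e => hz1 (Subtype.ext e)⟩
  obtain ⟨i, hi⟩ := IsPGroup.iff_orderOf.mp R.2 ⟨z, hzR⟩
  rw [Subgroup.orderOf_mk] at hi
  obtain ⟨j, -, hj⟩ := (Nat.dvd_prime_pow (Fact.out : r.Prime)).mp (hi ▸ orderOf_map_dvd π z)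
  have hzE : z ∈ E := hz.1.2
  have hzM : z ∈ M := Subgroup.commutator_le_right M M hzE
  refine ⟨z, j, hj, hzM, fun e => hz1 (Subtype.ext ?_), ?_⟩
  · have hzc : z ∈ center G := hker z e i hi
    have hzC : (⟨z, hzM⟩ : M) ∈ commutator M := by
      have : z ∈ (commutator M).map M.subtype := by rw [map_subtype_commutator]; exact hzE
      obtain ⟨w, hw, e'⟩ := this
      rwa [show (⟨z, hzM⟩ : M) = w from Subtype.ext e'.symm]
    have h1 : (⟨z, hzM⟩ : M) = 1 := eq_one_of_central_commutator RM hab hzR hzC
      (mem_center_iff.mpr fun y => Subtype.ext (mem_center_iff.mp hzc y))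
    have h2 : z = 1 := congrArg Subtype.val h1
    exact h2
  · exact sylow_dvd_of_le R fun y hy => mem_cent.mpr
      (congrArg Subtype.val (mem_center_iff.mp hz.2 ⟨y, hy⟩))

namespace Two

variable {a b : ℕ} (h : Two G a b)
include h

/-- There is a noncentral solvable normal subgroup. -/
theorem exists_solvable_normal :
    ∃ N : Subgroup G, N.Normal ∧ Group.IsSolvable N ∧ ¬ N ≤ center G := by
  by_contra hR
  push Not at hR
  haveI := Fact.mk Nat.prime_two
  set π := QuotientGroup.mk' (center G) with hπdef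
  have hπ : Function.Surjective π := QuotientGroup.mk'_surjective _
  have hker : π.ker = center G := QuotientGroup.ker_mk' _
  have hZs : Group.IsSolvable (center G) :=
    Group.isSolvable_of_comm fun u v => Subtype.ext (mem_center_iff.mp v.2 u)
  have hns : ¬ Group.IsSolvable (G ⧸ center G) := fun hs =>
    h.ns ((Group.isSolvable_iff_subgroup_quotient (center G)).mpr ⟨hZs, hs⟩)
  have hrad : ∀ N : Subgroup (G ⧸ center G), N.Normal → Group.IsSolvable N → N = ⊥ := by
    intro N hN hs
    haveI := hN
    have hNs : Group.IsSolvable (N.comap π) := by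
      refine Group.isSolvable_of_ker_le_range (inclusion (show center G ≤ N.comap π from fun g hg => by
        show π g ∈ N
        rw [show π g = 1 from (QuotientGroup.eq_one_iff g).mpr hg]
        exact one_mem N))
        (π.subgroupComap N) fun x hx => ?_
      have hx' : π (x : G) = 1 := congrArg Subtype.val hx
      exact ⟨⟨(x : G), (QuotientGroup.eq_one_iff (x : G)).mp hx'⟩, Subtype.ext rfl⟩
    rw [eq_bot_iff]
    intro x hx
    obtain ⟨g, rfl⟩ := hπ x
    exact mem_bot.mpr ((QuotientGroup.eq_one_iff g).mpr (hR _ inferInstance hNs hx))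
  have hgood : ∀ t : G ⧸ center G, orderOf t = 2 → HasNormalPComplement 2 (centralizer ({t} : Set (G ⧸ center G))) := by
    intro t ht
    obtain ⟨g0, rfl⟩ := hπ t
    obtain ⟨n, k, hk, hx0⟩ := exists_primary_lift π (k := 1) (ht.trans (pow_one 2).symm)
    rw [← hx0] at ht ⊢
    set x := g0 ^ n
    have hx : x ∉ center G := fun hc => by
      rw [show π x = 1 from (QuotientGroup.eq_one_iff x).mpr hc, orderOf_one] at ht
      omega
    have hx2 : x * x ∈ center G := (QuotientGroup.eq_one_iff _).mp (by
      show π (x * x) = 1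
      rw [map_mul, ← pow_two, ← ht, pow_orderOf_eq_one])
    have hodd : ∀ g ∈ (centralizer ({π x} : Set (G ⧸ center G))).comap π, Odd (orderOf g) → Commute g x := by
      intro g hg ho
      have hgc : π g * π x = π x * π g := mem_cent.mp hg
      set z := x⁻¹ * (g * x * g⁻¹) with hz
      have hzc : z ∈ center G := by
        refine QuotientGroup.eq.mp ?_
        show π x = π (g * x * g⁻¹)
        rw [map_mul, map_mul, map_inv, hgc, mul_inv_cancel_right]
      have hgx : g * x * g⁻¹ = x * z := by rw [hz]; group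
      have hz2 : z * z = 1 := by
        have e1 : g * (x * x) * g⁻¹ = x * x := by rw [mem_center_iff.mp hx2 g, mul_inv_cancel_right]
        rw [show g * (x * x) * g⁻¹ = (g * x * g⁻¹) * (g * x * g⁻¹) by group, hgx,
          show x * z * (x * z) = x * (z * x) * z by group, ← mem_center_iff.mp hzc x] at e1
        rw [show x * (x * z) * z = x * x * (z * z) by group] at e1
        exact mul_eq_left.mp e1
      have hit : ∀ m : ℕ, g ^ m * x * (g ^ m)⁻¹ = x * z ^ m := fun m => by
        induction m with
        | zero => simp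
        | succ m ih =>
          calc g ^ (m + 1) * x * (g ^ (m + 1))⁻¹ = g * (g ^ m * x * (g ^ m)⁻¹) * g⁻¹ := by rw [pow_succ']; group
            _ = (g * x * g⁻¹) * (g * z ^ m * g⁻¹) := by rw [ih]; group
            _ = x * z * z ^ m := by rw [hgx, mem_center_iff.mp (pow_mem hzc m) g, mul_inv_cancel_right]
            _ = x * z ^ (m + 1) := by rw [pow_succ', mul_assoc]
      have e1 := hit (orderOf g)
      rw [pow_orderOf_eq_one, one_mul, inv_one, mul_one] at e1
      obtain ⟨l, hl⟩ := ho
      rw [hl, pow_succ, pow_mul, pow_two, hz2, one_pow, one_mul] at e1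
      rw [← e1] at hgx
      exact mul_inv_eq_iff_eq_mul.mp hgx
    set D := (centralizer ({π x} : Set (G ⧸ center G))).comap π with hD
    have hnC : HasNormalPComplement 2 (centralizer ({x} : Set G)) := h.good hx hk
    have hnD : HasNormalPComplement 2 D := by
      rw [CfsgLib.hasNormalPComplement_iff_pResidual] at hnC ⊢
      have hle : (pResidual 2 D).map D.subtype ≤
          (pResidual 2 (centralizer ({x} : Set G))).map (centralizer ({x} : Set G)).subtype := by
        rw [map_le_iff_le_comap]
        refine CfsgLib.pResidual_le fun v hv => ?_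
        have hvo : Odd (orderOf (v : G)) := by
          rw [Subgroup.orderOf_coe]; exact Nat.coprime_two_right.mp hv
        exact ⟨⟨(v : G), mem_cent.mpr (hodd v v.2 hvo).eq⟩, CfsgLib.mem_pResidual (by
          rwa [Subgroup.orderOf_mk, Subgroup.orderOf_coe]), rfl⟩
      rw [← Subgroup.card_map_of_injective (K := pResidual 2 D) D.subtype_injective]
      refine Nat.Coprime.coprime_dvd_left (card_dvd_of_le hle) ?_
      rwa [Subgroup.card_map_of_injective (subtype_injective _)]
    have := CfsgLib.ZJ.hasNormalPComplement_map π hnD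
    rwa [hD, map_comap_eq_self_of_surjective hπ] at this
  obtain ⟨L, hLn, hCL, hperf, hlist⟩ := exists_socle hns hrad hgood
  haveI := hLn
  rcases hlist with ⟨r, p, u, T, hcr, hcp⟩ | ⟨T, hc5, ⟨e⟩⟩
  · haveI := Fact.mk T.hr
    haveI := Fact.mk T.hp
    have hcen : ∀ g : G, π g = 1 → ∀ (v k : ℕ), orderOf g = v ^ k → g ∈ center G := fun g hg _ _ _ =>
      hker ▸ MonoidHom.mem_ker.mpr hg
    obtain ⟨y, i, hy, hyL, hy1, hyf⟩ := exists_full hπ hperf (fun g hg => hcen g hg r) T.er hcr
    obtain ⟨x, j, hx, hxL, hx1, hxf⟩ := exists_full hπ hperf (fun g hg => hcen g hg p) T.ep hcp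
    exact no_triple h hπ hker.ge T hy hyL hy1 hyf (noncentral_of_image hker.ge hx1) hxf
  · exact no_triple_six h hπ hker T fun g hg => six_inner e hCL hg

end Two

end CfsgLib.ClassThree
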