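import Cfsg.Agent.Lib.ClassThree.Basic
import Cfsg.Agent.S4034
import Cfsg.Agent.Lib.Fusion.Hyperfocal

/-!
The shapes of a group with one size of noncentral p-regular classes, and the primes of the central quotient.
-/

set_option autoImplicit false
set_option linter.unusedSectionVars false
set_option linter.style.haveILetI false

namespace CfsgLib.ClassThree

open Subgroup Cfsg CfsgLib.ConjRankThree

universe u

variable {G : Type u} [Group G] [Finite G]

theorem index_eq_one_iff {x : G} : (centralizer ({x} : Set G)).index = 1 ↔ x ∈ center G := by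
  rw [index_eq_one]
  exact ⟨fun h => mem_center_iff.mpr fun g => mem_cent.mp (h ▸ mem_top g),
    fun h => eq_top_iff.mpr fun g _ => mem_cent.mpr (mem_center_iff.mp h g)⟩

/-- One size `m` of noncentral p-regular classes: either `m` is a `p`-power, or only the primes `p` and `q` occur
outside the centre. -/
theorem shape {p : ℕ} (hp : p.Prime) {m : ℕ}
    (h : ∀ w : G, (orderOf w).Coprime p → w ∉ center G → (centralizer ({w} : Set G)).index = m)
    {w0 : G} (hw0 : (orderOf w0).Coprime p) (hw0c : w0 ∉ center G) :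
    (∀ u : ℕ, u.Prime → u ∣ m → u = p) ∨
      ∃ q : ℕ, q.Prime ∧ q ≠ p ∧ (∀ u : ℕ, u.Prime → u ∣ m → u = p ∨ u = q) ∧
        ∀ (v : G) (u k : ℕ), u.Prime → u ≠ p → u ≠ q → orderOf v = u ^ k → v ∈ center G := by
  haveI := Fact.mk hp
  have hm := h w0 hw0 hw0c
  have hne : m ≠ 1 := fun e => hw0c (index_eq_one_iff.mp (hm.trans e))
  have hset : (Set.range fun x : {x : G // (orderOf x).Coprime p} => (ConjClasses.mk (x : G)).carrier.ncard) =
      {1, m} := by
    ext n
    simp only [Set.mem_range, Set.mem_insert_iff, Set.mem_singleton_iff, CfsgLib.ncard_carrier_eq_index_centralizer]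
    constructor
    · rintro ⟨⟨x, hx⟩, rfl⟩
      by_cases hc : x ∈ center G
      · exact Or.inl (index_eq_one_iff.mpr hc)
      · exact Or.inr (h x hx hc)
    · rintro (rfl | rfl)
      · exact ⟨⟨1, by rw [orderOf_one]; exact Nat.coprime_one_left p⟩, index_eq_one_iff.mpr (one_mem _)⟩
      · exact ⟨⟨w0, hw0⟩, hm⟩
  rcases Cfsg.Agent.S4033.result hp (by rw [hset, Set.ncard_pair (Ne.symm hne)]) with
    hH | ⟨q, hq, P, Q, A, hqp, hA, hcard, hn, hinf, htop⟩
  · left
    obtain ⟨k, hk⟩ := (Cfsg.Agent.S4034.result hp).mpr hH w0 hw0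
    rw [CfsgLib.ncard_carrier_eq_index_centralizer, hm] at hk
    intro u hu hud
    exact (Nat.prime_dvd_prime_iff_eq hu hp).mp (hu.dvd_of_dvd_pow (hk ▸ hud))
  right
  haveI := hq
  haveI hAn : A.Normal := ⟨fun u hu g => by rw [mem_center_iff.mp (hA hu) g, mul_inv_cancel_right]; exact hu⟩
  set PQ := (P : Subgroup G) ⊔ (Q : Subgroup G)
  have hG : Nat.card G = Nat.card PQ * Nat.card A :=
    (IsComplement'.card_mul_card (isComplement'_of_disjoint_and_mul_eq_univ (disjoint_iff.mpr hinf)
      (by rw [← Subgroup.mul_normal, htop, coe_top]))).symm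
  have hidx : A.index = Nat.card P * Nat.card Q := by
    have e := A.card_mul_index
    rw [hG, mul_comm (Nat.card PQ), hcard] at e
    exact Nat.eq_of_mul_eq_mul_left Nat.card_pos e
  have hprimes : ∀ u : ℕ, u.Prime → u ∣ A.index → u = p ∨ u = q := fun u hu hd => by
    rw [hidx, P.card_eq_multiplicity, Q.card_eq_multiplicity] at hd
    rcases hu.dvd_mul.mp hd with e | e
    · exact Or.inl ((Nat.prime_dvd_prime_iff_eq hu hp).mp (hu.dvd_of_dvd_pow e))
    · exact Or.inr ((Nat.prime_dvd_prime_iff_eq hu hq.out).mp (hu.dvd_of_dvd_pow e))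
  refine ⟨q, hq.out, hqp, fun u hu hud => hprimes u hu (hud.trans ?_), fun v u k hu hup huq hv => hA ?_⟩
  · rw [← hm]
    exact index_dvd_of_le fun g hg => mem_cent.mpr (mem_center_iff.mp (hA hg) w0).symm
  · rw [← QuotientGroup.eq_one_iff, ← orderOf_eq_one_iff]
    by_contra hne'
    obtain ⟨l, hl, hld⟩ := Nat.exists_prime_and_dvd hne'
    have h1 : l ∣ A.index := hld.trans (by rw [index_eq_card]; exact orderOf_dvd_natCard _)
    have h2 : l ∣ u ^ k := hv ▸ hld.trans (orderOf_map_dvd (QuotientGroup.mk' A) v)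
    have e := (Nat.prime_dvd_prime_iff_eq hl hu).mp (hl.dvd_of_dvd_pow h2)
    rcases hprimes l hl h1 with e' | e'
    · exact hup (e.symm.trans e')
    · exact huq (e.symm.trans e')

theorem normalComplement_of_commute
    (h : ∀ w : G, Odd (orderOf w) → ∀ (v : G) (k : ℕ), orderOf v = 2 ^ k → v * w = w * v) :
    HasNormalPComplement 2 G := by
  haveI := Fact.mk Nat.prime_two
  refine Cfsg.FusionSystem.hasNormalPComplement_of_centralizes (Classical.arbitrary _) fun Q hQ g _ hg v hv => ?_
  obtain ⟨k, hk⟩ := IsPGroup.iff_orderOf.mp ((Classical.arbitrary (Sylow 2 G)).2.to_le hQ) ⟨v, hv⟩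
  exact h g (Nat.coprime_two_right.mp hg) v k (by rwa [Subgroup.orderOf_mk] at hk)

theorem normalComplement_of_two_central (h : ∀ (v : G) (k : ℕ), orderOf v = 2 ^ k → v ∈ center G) :
    HasNormalPComplement 2 G :=
  normalComplement_of_commute fun w _ v k hk => (mem_center_iff.mp (h v k hk) w).symm

/-- A prime with a noncentral element of its power order. -/
def PX (G : Type u) [Group G] (s : ℕ) : Prop :=
  s.Prime ∧ ∃ y : G, y ∉ center G ∧ ∃ k, orderOf y = s ^ k

theorem PX.sylow_not_central {s : ℕ} [Fact s.Prime] (h : PX G s) (S : Sylow s G) :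
    ¬ (S : Subgroup G) ≤ center G := by
  intro hle
  obtain ⟨-, y, hy, hk⟩ := h
  obtain ⟨S', hS'⟩ := exists_sylow_of_mem hk
  obtain ⟨g, hg⟩ := MulAction.exists_smul_eq G S S'
  rw [← hg, Sylow.coe_subgroup_smul] at hS'
  obtain ⟨v, hv, rfl⟩ := hS'
  refine hy ?_
  show g * v * g⁻¹ ∈ center G
  rw [mem_center_iff.mp (hle hv) g, mul_inv_cancel_right]
  exact hle hv

/-- The central quotient of a nonsolvable group has a third prime. -/
theorem exists_third_prime (hns : ¬ Group.IsSolvable G) {p q : ℕ} (hp : p.Prime) (hq : q.Prime) :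
    ∃ s, PX G s ∧ s ≠ p ∧ s ≠ q := by
  by_contra hall
  push Not at hall
  set n := Nat.card (G ⧸ center G) with hn
  have hsub : ∀ s, s.Prime → s ∣ n → s = p ∨ s = q := by
    intro s hs hd
    haveI := Fact.mk hs
    obtain ⟨S⟩ : Nonempty (Sylow s G) := inferInstance
    obtain ⟨y, hy, hyc⟩ : ∃ y ∈ (S : Subgroup G), y ∉ center G := by
      by_contra hc
      push Not at hc
      refine S.not_dvd_index ((show s ∣ (center G).index from ?_).trans (index_dvd_of_le hc))
      rwa [index_eq_card]
    obtain ⟨k, hk⟩ := IsPGroup.iff_orderOf.mp S.2 ⟨y, hy⟩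
    rw [Subgroup.orderOf_mk] at hk
    by_cases e : s = p
    · exact Or.inl e
    · exact Or.inr (hall s ⟨hs, y, hyc, k, hk⟩ e)
  have hfac : Group.IsSolvable (G ⧸ center G) := by
    by_cases hpq : p = q
    · subst hpq
      haveI := Fact.mk hp
      haveI : Group.IsNilpotent (G ⧸ center G) := (IsPGroup.of_card (p := p) (n := _)
        (Nat.eq_prime_pow_of_unique_prime_dvd Nat.card_pos.ne' fun {d} hd hdd =>
          (hsub d hd hdd).elim id id)).isNilpotent
      infer_instance
    refine CfsgLib.CharTheory.isSolvable_of_card_two_primes hp hq (a := n.factorization p)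
      (b := n.factorization q) ?_
    have hsupp : n.primeFactors ⊆ {p, q} := fun s hs => by
      rcases hsub s (Nat.prime_of_mem_primeFactors hs) (Nat.dvd_of_mem_primeFactors hs) with e | e <;> simp [e]
    calc n = n.factorization.prod fun l k => l ^ k := (Nat.prod_factorization_pow_eq_self Nat.card_pos.ne').symm
      _ = ∏ l ∈ ({p, q} : Finset ℕ), l ^ n.factorization l := by
          rw [Finsupp.prod_of_support_subset _ (by simpa using hsupp) _ (fun i _ => pow_zero i)]
      _ = _ := by rw [Finset.prod_pair hpq]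
  refine hns ((Group.isSolvable_iff_subgroup_quotient (center G)).mpr ⟨?_, hfac⟩)
  exact Group.isSolvable_of_comm fun u v => Subtype.ext (mem_center_iff.mp v.2 u)

/-- A subgroup over the centre whose order is divisible by that of a larger one contains a noncentral element. -/
theorem exists_primary_in {s : ℕ} [Fact s.Prime] {H : Subgroup G} (hZ : center G ≤ H) {y : G}
    (hy : y ∉ center G) {k : ℕ} (hyk : orderOf y = s ^ k) (hd : cc y ∣ Nat.card H) :
    ∃ v ∈ H, v ∉ center G ∧ ∃ l, orderOf v = s ^ l := by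
  have hs : s.Prime := Fact.out
  set Z' := (center G).subgroupOf H with hZ'
  haveI : Z'.Normal := by rw [hZ']; infer_instance
  set K := center G ⊔ zpowers y
  have hK : K ≤ centralizer ({y} : Set G) :=
    sup_le (fun g hg => mem_cent.mpr (mem_center_iff.mp hg y).symm) (zpowers_le.mpr (self_mem y))
  have hsK : s ∣ (center G).relIndex K := by
    haveI : ((center G).subgroupOf K).Normal := inferInstance
    set yK : K := ⟨y, mem_sup_right (mem_zpowers y)⟩
    obtain ⟨j, -, hj⟩ := (Nat.dvd_prime_pow hs).mp (show orderOf (yK : K ⧸ (center G).subgroupOf K) ∣ s ^ k by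
      rw [← hyk, ← Subgroup.orderOf_mk y (mem_sup_right (mem_zpowers y) : y ∈ K)]
      exact orderOf_map_dvd (QuotientGroup.mk' ((center G).subgroupOf K)) yK)
    have hj0 : j ≠ 0 := fun e => hy (by
      rw [e, pow_zero, orderOf_eq_one_iff, QuotientGroup.eq_one_iff] at hj
      exact hj)
    refine (dvd_pow_self s hj0).trans ?_
    rw [← hj, relIndex, index_eq_card]
    exact orderOf_dvd_natCard _
  have hsH : s ∣ Nat.card (H ⧸ Z') := by
    have e1 : Nat.card (center G) * (center G).relIndex K = Nat.card K := by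
      rw [← Nat.card_congr (subgroupOfEquivOfLe (le_sup_left : center G ≤ K)).toEquiv]
      exact card_mul_index _
    have e2 : Nat.card (center G) * (center G).relIndex H = Nat.card H := by
      rw [← Nat.card_congr (subgroupOfEquivOfLe hZ).toEquiv]
      exact card_mul_index _
    have h3 : Nat.card (center G) * (center G).relIndex K ∣ Nat.card (center G) * (center G).relIndex H := by
      rw [e1, e2]; exact (card_dvd_of_le hK).trans hd
    rw [← index_eq_card]
    exact hsK.trans (Nat.dvd_of_mul_dvd_mul_left Nat.card_pos h3)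
  obtain ⟨q, hq⟩ := exists_prime_orderOf_dvd_card' (G := H ⧸ Z') s hsH
  obtain ⟨v, rfl⟩ := QuotientGroup.mk_surjective q
  obtain ⟨l, m, hm, hlm⟩ := Nat.exists_eq_pow_mul_and_not_dvd (orderOf_pos (v : G)).ne' s hs.ne_one
  have hm0 : m ≠ 0 := fun e => hm (e ▸ dvd_zero s)
  refine ⟨(v : G) ^ m, pow_mem v.2 m, fun hc => ?_, l, ?_⟩
  · have h1 : ((v : H ⧸ Z') ^ m) = 1 := by
      rw [← QuotientGroup.mk_pow, QuotientGroup.eq_one_iff, hZ', mem_subgroupOf]
      exact hc
    have h2 := orderOf_dvd_of_pow_eq_one h1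
    rw [hq] at h2
    exact hm h2
  · rw [orderOf_pow_of_dvd hm0 (hlm ▸ dvd_mul_left _ _), hlm, Nat.mul_div_cancel _ (Nat.pos_of_ne_zero hm0)]

end CfsgLib.ClassThree
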